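import Cfsg.Agent.PG.BG10.Tools

/-! Small general lemmas used in section 12 of Bender-Glauberman. -/

set_option autoImplicit false
set_option linter.unusedSectionVars false

open Pointwise Cfsg Cfsg.Lib.Solv

namespace Cfsg.Lib.FT.PG.X12

open Cfsg.Lib.FT.X12

variable {G : Type*} [Group G] [Dl G] [Finite G] {p q : ℕ} {π : Set ℕ}
  {A B H K L M N P Q R S X Y Z : Subgroup G} {g x y : G}

theorem ex_mmax_ne (hM : Mx M) (hX : Loc X) (h : ¬ UniqMax X M) :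
    ∃ L, Mx L ∧ X ≤ L ∧ L ≠ M := by
  by_contra hc
  push Not at hc
  obtain ⟨L, hL, hXL⟩ := X10.mmax_exists hX
  exact h ⟨hM, hc L hL hXL ▸ hXL, hc⟩

theorem norm_elem_ne_top (hG : Ctx G) {n : ℕ} (hp : p.Prime)
    (hX : X ∈ Elem p (n + 1) H) (hd : p ∈ dl G := by dlt) : Loc (𝐍 X) :=
  X10.norm_ne_top hG (X10.elem_ne_bot hp hX) (X10.pgroup_dg hG hp (X10.elem_pgroup hX) hd)

theorem ex_mmax_norm (hG : Ctx G) {n : ℕ} (hp : p.Prime)
    (hX : X ∈ Elem p (n + 1) H) (hd : p ∈ dl G := by dlt) : ∃ L, Mx L ∧ 𝐍 X ≤ L :=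
  X10.mmax_exists (norm_elem_ne_top hG hp hX hd)

end Cfsg.Lib.FT.PG.X12
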