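import Cfsg.Agent.PG.BG12.T13

/-! Bender-Glauberman 12.11. -/

set_option autoImplicit false
set_option linter.unusedSectionVars false

open Pointwise Cfsg Cfsg.Lib.Solv

namespace Cfsg.Lib.FT.PG

variable {G : Type*} [Group G] [Dl G] [Finite G]

theorem X12.tau3_le_der (hG : Ctx G) {M X : Subgroup G} (hM : Mx M)
    (hXM : X ≤ M) (hX : IsPiSubgroup (tau3 M) X) : X ≤ ⁅M, M⁆ := by
  obtain ⟨E, hE, hXE⟩ := ex_sigma_compl hG hM hXM (sub_pgroup (tau3_sub_sigma' M) hX)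
  obtain ⟨E₁, E₂, E₃, hc⟩ := X12.ex_sigmaCompl hG hM hE
  obtain ⟨⟨s3, n3⟩, -⟩ := sigma_compl_context hG hM hc
  exact (norm_sub_Hall' hc.hall3 hX hXE (hXE.trans n3.2)).trans (s3.trans (dergS hE.1))

theorem X12.sigma_le_der (hG : Ctx G) {M X : Subgroup G} (hM : Mx M)
    (hXM : X ≤ M) (hX : IsPiSubgroup (sigma M) X) : X ≤ ⁅M, M⁆ :=
  (sub_Msigma hG hM hXM hX).trans (Msigma_der1 hG hM)

theorem X12.sigma_of_norm_elem2 (hG : Ctx G) {L A H : Subgroup G}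
    (hL : Mx L) {p : ℕ} (hp : p.Prime) (hA : A ∈ Elem p 2 H) (hN : 𝐍 A ≤ L) :
    p ∈ sigma L := by
  by_contra hs
  have hAL := (normG A).trans hN
  obtain ⟨E, hE, hAE⟩ := ex_sigma_compl hG hL hAL (X12.elem_pi hp hA hs)
  have hA' := X10.elem_mono hA hAE
  exact (tau2_compl_context hG hL hE (sigma'2Elem_tau2 hG hL hE hp hA') hA').2.1.2.2 hN

theorem X12.primes_norm_tau2Elem_ab (hG : Ctx G) {M E A L : Subgroup G}
    (hM : Mx M) (hE : IsPiHallOf (sigma M)ᶜ E M) {p : ℕ} (hp : p ∈ tau2 M)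
    (hA : A ∈ Elem p 2 E) (hL : Mx L) (hN : 𝐍 A ≤ L) :
    tau2 M ⊆ sigma L \ beta L ∧ PiNum (tau1 L ∪ tau2 L) ((𝐂 A).relIndex E) := by
  have := Fact.mk hp.1
  have nA := (tau2_compl_context hG hM hE hp hA).1.1
  have hEL := nA.2.trans hN
  have ha : tau2 M ⊆ sigma L \ beta L := by
    intro q hq
    refine ⟨?_, fun h => (tau2_not_beta hG hM hq).1 h.2⟩
    by_cases e : q = p
    · exact e ▸ X12.sigma_of_norm_elem2 hG hL hp.1 hA hN
    obtain ⟨S, hS, hAS⟩ := Sylow_superset (le_top : A ≤ ⊤) (X10.elem_pgroup hA)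
    have hab : IsMulCommutative S := by
      by_contra hna
      exact e (X12.nonabelian_tau2_eq hG hM hp (Sylow_pgroup hS) hna ▸ hq : q ∈ ({p} : Set ℕ))
    obtain ⟨B, hB, -⟩ := ex_tau2Elem hG hM hE hq
    obtain ⟨Q, hQ, hBQ⟩ := X10.syl_superset hq.1 (X10.elem_pgroup hB) le_top
    obtain ⟨E₁, E₂, E₃, hc⟩ := X12.ex_sigmaCompl hG hM hE
    obtain ⟨-, -, ⟨k1, k2, -⟩, -⟩ := abelian_tau2 hG hM hc hp hA hS hAS hab
    obtain ⟨-, -, ⟨l1, l2, -⟩, -⟩ := abelian_tau2 hG hM hc hq hB hQ hBQ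
      (X12.abelian_tau2_Sylow hG hM hp hS hab hq (X10.syl_pgroup hq.1 hQ))
    exact X12.sigma_of_norm_elem2 hG hL hq.1 hB (by rwa [l1, l2, ← k2, ← k1])
  refine ⟨ha, fun q hq hd => ?_⟩
  have := Fact.mk hq
  obtain ⟨Q, hQ⟩ := Sylow_exists q E
  have hQA : ¬ Q ≤ 𝐂 A := fun h =>
    Sylow_index hQ (hd.trans (Subgroup.relIndex_dvd_of_le_left _ h))
  have hqp : q ≠ p := fun e => tau2'1 M (tau1_cent_tau2Elem_factor hG hM hE hp hA q hq hd) (e ▸ hp)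
  have hQL := hQ.1.trans hEL
  have hQd : ¬ Q ≤ ⁅L, L⁆ := by
    intro h
    have h1 := (beta_max_pdiv hG hL hp.1 (ha hp).2).1
    have h2 := (sub_Hall_pcore h1 h).2 (pgroup_p'group_of_ne (Sylow_pgroup hQ) hqp)
    refine hQA (commG1P.1 (le_bot_iff.1 ?_))
    rw [← coprime_TIg (X12.elem_coprime hp.1 hA (pcore_pgroup ({p}ᶜ : Set ℕ) ⁅L, L⁆) (by simp))]
    exact le_inf ((commgSS h2 le_rfl).trans (commg_subl.2 ((hA.1.trans hEL).trans
      (pcore_normal_trans _ (der_normal L)).2))) (commg_subr.2 (hQ.1.trans nA.2))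
  have hQ1 : Q ≠ ⊥ := fun e => hQA (e ▸ bot_le)
  rcases (partition_pi_mmax hG hL q).1
    ⟨hq, (pgroup_dvd_card (Sylow_pgroup hQ) hQ1).trans (cardSg hQL)⟩ with h | h | h | h
  · exact Or.inl h
  · exact Or.inr h
  · exact absurd (X12.tau3_le_der hG hL hQL (pi_pgroup (Sylow_pgroup hQ) h)) hQd
  · exact absurd (X12.sigma_le_der hG hL hQL (pi_pgroup (Sylow_pgroup hQ) h)) hQd

/-- for `p ∈ σ(M)` and `M_σ` nilpotent there is a Sylow `p`-subgroup of `G` normal in `M` -/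
theorem X12.normal_Sylow_of_nil (hG : Ctx G) {M : Subgroup G} (hM : Mx M)
    {p : ℕ} (hp : p ∈ sigma M) (hn : Group.IsNilpotent (sigmaCore M)) :
    IsSylowOf p (piCoreOf {p} (sigmaCore M)) ⊤ ∧ piCoreOf {p} (sigmaCore M) ⊲ M :=
  ⟨subHall_Sylow (Msigma_Hall_G hG hM) hp (nilpotent_pcore_Hall _ hn),
    pcore_normal_trans _ (Msigma_normal M)⟩

/-- 12.11 -/
theorem primes_norm_tau2Elem (hG : Ctx G) {M E A Mstar : Subgroup G}
    (hM : Mx M) (hE : IsPiHallOf (sigma M)ᶜ E M) {p : ℕ} (hp : p ∈ tau2 M)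
    (hA : A ∈ Elem p 2 E) (hMstar : Mx Mstar) (hN : 𝐍 A ≤ Mstar) :
    tau2 M ⊆ sigma Mstar \ beta Mstar ∧
      PiNum (tau1 Mstar ∪ tau2 Mstar) ((𝐂 A).relIndex E) ∧
      ∀ q : ℕ, q.Prime → q ∣ (𝐂 A).relIndex E → q ∣ Nat.card ↥(E ⊓ 𝐂 A) →
        q ∈ tau2 Mstar ∧ (∃ P : Subgroup G, IsSylowOf p P ⊤ ∧ P ⊲ Mstar) ∧
          ∃ Q : Subgroup G, IsSylowOf q Q ⊤ ∧ Q ≤ Mstar ∧ IsMulCommutative Q := by
  obtain ⟨ha, hb⟩ := X12.primes_norm_tau2Elem_ab hG hM hE hp hA hMstar hN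
  refine ⟨ha, hb, fun q hq hd hdC => ?_⟩
  have := Fact.mk hp.1
  have := Fact.mk hq
  obtain ⟨⟨nA, -⟩, ⟨hCA, -⟩, -⟩ := tau2_compl_context hG hM hE hp hA
  rw [inf_eq_right.2 hCA] at hdC
  have hq1 := tau1_cent_tau2Elem_factor hG hM hE hp hA q hq hd
  obtain ⟨Q, hQ⟩ := Sylow_exists q E
  have hQq := Sylow_pgroup hQ
  have hQA : ¬ Q ≤ 𝐂 A := fun h =>
    Sylow_index hQ (hd.trans (Subgroup.relIndex_dvd_of_le_left _ h))
  have hQc := tau13_pgroup_cyclic hG (Or.inl hq1) hQq (hQ.1.trans hE.1)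
  have hQ0 : IsSylowOf q (Q ⊓ 𝐂 A) (𝐂 A) := setI_normal_Hall ⟨hCA, norms_cent nA.2⟩ hQ
  have hQ01 := Sylow_ne_bot hQ0 hdC
  have hqd : q ∈ dl G := tau2_dg hG hM hp q hq (tau1_sub_pi M hq1).2
  obtain ⟨L, hL, hQL⟩ := mmax_exists_norm hG hQ01 (dg_of_sylow hQ0 hqd)
  have hAL : A ≤ L := (cents_norm (centsC.1 inf_le_right)).trans hQL
  have hNL : 𝐍 A ≤ L := by
    rw [← Frattini_arg (cent_normal A) hQ0]
    exact sup_le (p2Elem_mmax hG hL hp.1 (X10.elem_mono hA hAL)).1 (inf_le_right.trans hQL)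
  obtain ⟨ha', hb'⟩ := X12.primes_norm_tau2Elem_ab hG hM hE hp hA hL hNL
  have hq2 : q ∈ tau2 L := by
    rcases prime_class_mmax_norm hG hL hq (Sylow_pgroup hQ0) hQL with h | h
    · rcases hb' q hq hd with h' | h'
      exacts [absurd h h'.2.1, h']
    · exact h
  have hps := (ha' hp).1
  obtain ⟨hP, nP⟩ := X12.normal_Sylow_of_nil hG hL hps (tau2_Msigma_nil hG hL hq2)
  set P := piCoreOf {p} (sigmaCore L) with hPdef
  have hAP : A ≤ P := norm_sub_Hall' hP (pgroup_iff.2 (X10.elem_pgroup hA)) le_top (hAL.trans nP.2)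
  have eL : L = Mstar := by
    by_cases hab : IsMulCommutative P
    · refine eq_mmax hL hMstar (nP.2.trans (le_trans ?_ hN))
      exact X12.abelian_tau2_Ohm hG hM hE hp hA hP hAP hab ▸ norm_Ohm p P
    · have hna := X12.subnorm_maxElem_nonabelian hp.1 (Sylow_pgroup hP) hab
        (pmaxElemS le_top ((tau2_not_beta hG hM hp).2 (X12.elemS hE.1 hA)) hAP)
      exact X10.uniq_eq (nonabelian_Uniqueness hG hp.1 (isPGroupS inf_le_left (Sylow_pgroup hP)) hna)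
        hMstar hL (inf_le_right.trans hN) (inf_le_left.trans nP.1)
  subst eL
  refine ⟨hq2, ⟨P, hP, nP⟩, ?_⟩
  obtain ⟨F, hF, hQF⟩ := ex_sigma_compl hG hL (hQ.1.trans (nA.2.trans hN)) (pi_pgroup hQq hq2.2.1)
  obtain ⟨B, hB, hBL⟩ := ex_tau2Elem hG hL hF hq2
  obtain ⟨S, hS, hBS⟩ := Sylow_superset (le_top : B ≤ ⊤) (X10.elem_pgroup hB)
  have hab : IsMulCommutative S := by
    by_contra hna
    obtain ⟨-, -, hX, E₀, hE₀, -⟩ := nonabelian_tau2 hG hL hF hq2 hB (Sylow_pgroup hS) hna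
    obtain ⟨X, hX0⟩ := X12.ex_elem1 hq hdC |>.elim fun _ _ =>
      X12.ex_elem1_of_pgroup hq (Sylow_pgroup hQ0) hQ01
    have hXQ : X ≤ Q := hX0.1.trans inf_le_left
    have e : X = B ⊓ 𝐂 (sigmaCore L) := by
      by_contra hne
      have := (hX X (X10.elem_mono hX0 (hXQ.trans hQF)) hne).1
      exact X12.elem2_ne_bot hp.1 hA (le_bot_iff.1 ((le_inf (hAP.trans (pcore_sub _ _))
        (centsC.1 (hX0.1.trans inf_le_right))).trans this.le))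
    rw [← e] at hE₀
    have h1 := hE₀.modr_le hXQ hQF
    have h2 : E₀ ⊓ Q = ⊥ := by
      by_contra hne
      have := X12.elem1_le_of_cyclic hq hQq hQc (X10.elem_mono hX0 hXQ) inf_le_right hne
      exact X12.elem1_ne_bot hq hX0 (le_bot_iff.1 ((le_inf le_rfl this).trans h1.inf.le))
    exact hQA ((h1.eq_left_of_right_eq_bot h2).ge.trans (hX0.1.trans inf_le_right))
  exact ⟨S, hS, (abelian_le_cent hab).trans ((centS hBS).trans (p2Elem_mmax hG hL hq hBL).1), hab⟩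

end Cfsg.Lib.FT.PG
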