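import Cfsg.Agent.PG.BG12.T11

/-! Bender-Glauberman 12.12. -/

set_option autoImplicit false
set_option linter.unusedSectionVars false

open Pointwise Cfsg Cfsg.Lib.Solv

namespace Cfsg.Lib.FT.PG

variable {G : Type*} [Group G] [Dl G] [Finite G]

/-- a line normalized by `N(A)` has no fixed point in `M_σ` -/
theorem X12.reg_of_norm (hG : Ctx G) {M E A Y : Subgroup G} (hM : Mx M)
    (hE : IsPiHallOf (sigma M)ᶜ E M) {p : ℕ} (hp : p ∈ tau2 M) (hA : A ∈ Elem p 2 E)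
    (hY : Y ∈ Elem p 1 E) (hn : 𝐍 A ≤ 𝐍 Y) : sigmaCore M ⊓ 𝐂 Y = ⊥ := by
  obtain ⟨-, ⟨-, -, hNA⟩, hu, -⟩ := tau2_compl_context hG hM hE hp hA
  by_contra hne
  exact hNA (hn.trans (sub_uniq_mmax (hu Y hY hne) (cent_sub Y) (X12.norm_elem_ne_top hG hp.1 hY)))

/-- the cyclic subgroup of 12.12 when `S` is central -/
theorem X12.typeF_central (hG : Ctx G) {M E A S : Subgroup G} (hM : Mx M)
    (hE : IsPiHallOf (sigma M)ᶜ E M) {p : ℕ} (hp : p ∈ tau2 M) (hA : A ∈ Elem p 2 E)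
    (hS : IsSylowOf p S ⊤) (hAS : A ≤ S) (hab : IsMulCommutative S) :
    ∃ z ∈ S, Semiregular (sigmaCore M) (Subgroup.zpowers z) ∧ ∀ x ∈ S, x ^ orderOf z = 1 := by
  have := Fact.mk hp.1
  have hO := X12.abelian_tau2_Ohm hG hM hE hp hA hS hAS hab
  obtain ⟨E₁, E₂, E₃, hc⟩ := X12.ex_sigmaCompl hG hM hE
  have hNA := (abelian_tau2 hG hM hc hp hA hS hAS hab).2.2.1.1
  obtain ⟨m, hm, x₀, hx₀, hx₀'⟩ := X12.ex_exponent hp.1 (Sylow_pgroup hS)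
    (subG1_contra hAS (X12.elem2_ne_bot hp.1 hA))
  obtain ⟨V, hV, nV⟩ := X12.ex_mho hab (p ^ m)
  have hVA : V ≤ A := fun y hy => by
    obtain ⟨x, hx, rfl⟩ := (hV y).1 hy
    rw [← hO]
    exact mem_Ohm1 (S.pow_mem hx _) (by rw [← pow_mul, ← pow_succ, hm x hx])
  obtain ⟨Y, hY, hreg⟩ : ∃ Y ∈ Elem p 1 V, sigmaCore M ⊓ 𝐂 Y = ⊥ := by
    by_cases e : V = A
    · rw [e]
      exact (tau2_context hG hM hp (X12.elemS hE.1 hA)).2.2.2.2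
    · have hV1 := X12.elem1_of_lt hp.1 hA hVA (trivgPn.2 ⟨_, (hV _).2 ⟨x₀, hx₀, rfl⟩, hx₀'⟩) e
      exact ⟨V, X12.elem_self hV1, X12.reg_of_norm hG hM hE hp hA (X12.elemS hA.1 hV1) (hNA ▸ nV)⟩
  obtain ⟨y, hy, hyp, rfl⟩ := p1Elem_exists_zpowers hY
  obtain ⟨z, hz, rfl⟩ := (hV y).1 (hY.1 hy)
  have ho : orderOf z = p ^ (m + 1) := orderOf_eq_prime_pow
    (fun e => hp.1.ne_one (by rw [← hyp, e, orderOf_one])) (hm z hz)
  refine ⟨z, hz, X12.semiregular_cyclic hp.1 (isPGroupS (Subgroup.zpowers_le.2 hz) (Sylow_pgroup hS))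
    inferInstance (X10.elem_mono hY (Subgroup.zpowers_le.2 (Subgroup.pow_mem _
      (Subgroup.mem_zpowers z) _))) hreg, fun x hx => by rw [ho, hm x hx]⟩

/-- the cyclic subgroup of 12.12 when `S` splits under `N(S)` -/
theorem X12.typeF_split (hG : Ctx G) {M E A S S₀ S₁ : Subgroup G} (hM : Mx M)
    (hE : IsPiHallOf (sigma M)ᶜ E M) {p : ℕ} (hp : p ∈ tau2 M) (hA : A ∈ Elem p 2 E)
    (hS : IsSylowOf p S ⊤) (hAS : A ≤ S) (hab : IsMulCommutative S) (hd : DProd S₀ S₁ S)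
    (h0 : S₀ ≠ ⊥) (h1 : S₁ ≠ ⊥) (n0 : 𝐍 S ≤ 𝐍 S₀) (n1 : 𝐍 S ≤ 𝐍 S₁) :
    ∃ z ∈ S, 𝐍 S ≤ 𝐍 (Subgroup.zpowers z) ∧ Semiregular (sigmaCore M) (Subgroup.zpowers z) ∧
      ∀ x ∈ S, x ^ orderOf z = 1 := by
  have := Fact.mk hp.1
  have hSp := Sylow_pgroup hS
  have hSE : S ≤ E := (abelian_le_cent hab).trans
    (abelian_tau2_sub_Fitting hG hM hE hp hA hS hAS hab).2.2.2
  obtain ⟨E₁, E₂, E₃, hc⟩ := X12.ex_sigmaCompl hG hM hE
  have hNA := (abelian_tau2 hG hM hc hp hA hS hAS hab).2.2.1.1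
  wlog hle : Nat.card S₀ ≤ Nat.card S₁ generalizing S₀ S₁
  · exact this hd.symm h1 h0 n1 n0 (by omega)
  have p0 := isPGroupS hd.le_left hSp
  have p1 := isPGroupS hd.le_right hSp
  have hr := p_rank_dprod (p := p) hd
  have hr2 := (p_rankS p hSE).trans ((tau2E hG hM hE p).1 hp).2.le
  have hr0 := p_rank_gt0.2 (pgroup_dvd_card p0 h0)
  have c1 : IsCyclic S₁ := X12.rank1_cyclic hp.1 p1
    ((dg_of_pgroup p1 (tau2_dl hp hM hG)).odd hG) (by omega)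
  have hY := X12.omega_cyclic_elem1 hp.1 c1 (pgroup_dvd_card p1 h1)
  have hreg := X12.semiregular_cyclic hp.1 p1 c1 hY (X12.reg_of_norm hG hM hE hp hA
    (X12.elemS (hd.le_right.trans hSE) hY) (hNA ▸ norms_Ohm n1))
  have hdvd : Nat.card S₀ ∣ Nat.card S₁ := by
    obtain ⟨a, ha⟩ := pgroup_card_pow p0
    obtain ⟨b, hb⟩ := pgroup_card_pow p1
    rw [ha, hb] at hle ⊢
    exact pow_dvd_pow p ((Nat.pow_le_pow_iff_right hp.1.one_lt).1 hle)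
  obtain ⟨z, rfl⟩ := cyclicP.1 c1
  refine ⟨z, hd.le_right (Subgroup.mem_zpowers z), n1, hreg, fun x hx => ?_⟩
  obtain ⟨a, ha, b, hb, rfl⟩ := hd.exists_mul hx
  rw [← Nat.card_zpowers, Commute.mul_pow (hd.comm ha hb),
    orderOf_dvd_iff_pow_eq_one.1 ((order_dvdG ha).trans hdvd),
    orderOf_dvd_iff_pow_eq_one.1 (order_dvdG hb), one_mul]

/-- the cyclic subgroup `Z_p` of 12.12 -/
theorem X12.typeF_cyclic (hG : Ctx G) {M E U A S : Subgroup G} (hM : Mx M)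
    (hE : IsPiHallOf (sigma M)ᶜ E M) (hU : IsHallOf U E)
    (hreg : ∀ e ∈ U, e ≠ 1 → PiElt (tau1 M ∪ tau3 M) e → sigmaCore M ⊓ 𝐂₁ e = ⊥)
    {p : ℕ} (hp : p ∈ tau2 M) (hA : A ∈ Elem p 2 E)
    (hS : IsSylowOf p S ⊤) (hAS : A ≤ S) (hab : IsMulCommutative S) (hSU : S ≤ U) :
    ∃ z ∈ S, U ≤ 𝐍 (Subgroup.zpowers z) ∧ Semiregular (sigmaCore M) (Subgroup.zpowers z) ∧
      ∀ x ∈ S, x ^ orderOf z = 1 := by
  have := Fact.mk hp.1
  by_cases hUS : U ≤ 𝐂 S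
  · obtain ⟨z, hz, h⟩ := X12.typeF_central hG hM hE hp hA hS hAS hab
    exact ⟨z, hz, cents_norm (hUS.trans (centS (Subgroup.zpowers_le.2 hz))), h⟩
  have hSp := Sylow_pgroup hS
  obtain ⟨⟨nA, -⟩, ⟨hCA, -⟩, -⟩ := tau2_compl_context hG hM hE hp hA
  obtain ⟨q, hq, hdU, hQ₁⟩ : ∃ q, ∃ _ : Fact q.Prime, q ∣ Nat.card U ∧
      ∀ R, IsSylowOf q R U → ¬ R ≤ 𝐂 S := by
    by_contra h
    push Not at h
    exact hUS (le_of_forall_Sylow_le fun r hr hd => h r hr hd)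
  have hqp : q ≠ p := by
    rintro rfl
    exact hQ₁ S (pHall_subl hSU le_top hS) (abelian_le_cent hab)
  obtain ⟨Q₁, hQ₁U⟩ := Sylow_exists q U
  have hQ₁S := hQ₁ Q₁ hQ₁U
  have hQ₁E : IsSylowOf q Q₁ E := subHall_Sylow (Hall_pi hU) ⟨hq.out, hdU⟩ hQ₁U
  have hQ₁q := Sylow_pgroup hQ₁U
  have hO := X12.abelian_tau2_Ohm hG hM hE hp hA hS hAS hab
  obtain ⟨E₁', E₂', E₃', hc'⟩ := X12.ex_sigmaCompl hG hM hE
  obtain ⟨-, -, ⟨hNA, -⟩, -, hf⟩ := abelian_tau2 hG hM hc' hp hA hS hAS hab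
  have hES : E ≤ 𝐍 S := hNA ▸ nA.2
  have hQ₁A : ¬ Q₁ ≤ 𝐂 A := fun h => hQ₁S (coprime_abelian_faithful_omegaOne hp.1 hS.2.1
    (hQ₁E.1.trans hES) (pgroup_coprime_of_ne hSp hQ₁q hqp.symm) hab (hO ▸ h))
  have hdA := X12.dvd_relIndex_of_not_le hq.out (norms_cent nA.2) hQ₁q hQ₁E.1 hQ₁A
  have hq1 := tau1_cent_tau2Elem_factor hG hM hE hp hA q hq.out hdA
  have c1 := tau13_pgroup_cyclic hG (Or.inl hq1) hQ₁q (hQ₁E.1.trans hE.1)
  obtain ⟨X, hX⟩ := X12.ex_elem1_of_pgroup hq.out hQ₁q fun e => hQ₁S (e ▸ bot_le)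
  have hXA : X ≤ E ⊓ 𝐂 A := by
    obtain ⟨E₁, E₂, E₃, hc, hX1⟩ := ex_sigmaCompl_of_tau1 hG hM hE (hX.1.trans hQ₁E.1)
      (X12.elem_pi hq.out hX hq1)
    refine ((abelian_tau2 hG hM hc hp hA hS hAS hab).2.2.2.1 q X hq.out (X10.elem_mono hX hX1)
      ?_).trans (inf_le_inf_left _ (centS hA.1))
    obtain ⟨e, he, ho, rfl⟩ := p1Elem_exists_zpowers hX
    rw [cent_zpowers]
    exact hreg e (hQ₁U.1 (hX.1 he)) (fun h => hq.out.ne_one (by rw [← ho, h, orderOf_one]))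
      ((p_elt_prime ho hq.out).2 (Or.inl hq1))
  obtain ⟨L, hL, hAL⟩ := X12.ex_mmax_norm hG hp.1 hA
  obtain ⟨hq2, ⟨P, hP, nP⟩, T, hT, -, hTab⟩ := (primes_norm_tau2Elem hG hM hE hp hA hL hAL).2.2 q
    hq.out hdA (X12.elem_dvd (X10.elem_mono hX hXA))
  have hSL : S ≤ L := (normG S).trans (hNA ▸ hAL)
  have ePS : P = S := sub_Sylow hS (Sylow_pgroup hP)
    (norm_sub_Hall' hP hS.2.1 le_top (hSL.trans nP.2)) le_top
  subst ePS
  obtain ⟨Q, hQ, hQ₁Q⟩ := Sylow_superset (hQ₁E.1.trans (nA.2.trans hAL)) hQ₁q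
  have hQq := Sylow_pgroup hQ
  have hQab := X12.Sylow_abelian_pgroup hq.out hT hTab hQq le_top
  have nSQ : Q ≤ 𝐍 P := hQ.1.trans nP.2
  have hco := pgroup_coprime_of_ne hSp hQq hqp.symm
  have hQ₀ : Q ⊓ 𝐂 P ≤ Q₁ := by
    rw [← sub_Sylow hQ₁E (isPGroupS inf_le_left hQq) (le_inf hQ₁Q hQ₁E.1) inf_le_right]
    exact inf_le_inf_left _ ((centS hAS).trans hCA)
  obtain ⟨a, ha, haC, hne⟩ : ∃ a ∈ Q, a ∉ Q ⊓ 𝐂 P ∧ ¬ P ⊓ 𝐂₁ a ≤ ⊥ := by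
    by_contra h
    push Not at h
    refine X12.elem2_ne_bot hp.1 hA (le_bot_iff.1 (hAS.trans (X12.gen_cent_mod
      (norm_subcent_normal nSQ) (centsC.1 inf_le_right) nSQ
      ((abelian_iff_der.1 hQab).le.trans bot_le) (fun a ha hc => ?_) hco h)))
    obtain ⟨B, hB⟩ := (X10.le_pRank_iff hq.out).1
      ((p_rank_Sylow hQ).trans (mem_tau2_iff.1 hq2).2.2).ge
    refine X12.elem2_noncyclic hq.out hB (cyclicS (fun b hb => ?_) c1)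
    exact X12.mem_of_cyclic_mod hq.out hQq (norm_subcent_normal nSQ) hQ₀
      (fun h => hQ₁S (h.trans inf_le_right)) hQ₁Q ha hc (hB.1 hb) (hB.2.1.2 b hb)
  have haN : Subgroup.zpowers a ≤ 𝐍 P := (Subgroup.zpowers_le.2 ha).trans nSQ
  obtain ⟨z, hz, hn, h⟩ := X12.typeF_split hG hM hE hp hA hS hAS hab
    (coprime_abelian_cent_dprod haN (coprimegS (Subgroup.zpowers_le.2 ha) hco) hab)
    (fun e => haC ⟨ha, centsC.1 (commG1P.1 e) (Subgroup.mem_zpowers a)⟩)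
    (fun e => hne (by rw [← cent_zpowers, e])) (hf _ haN).2.2 (hf _ haN).1.2
  exact ⟨z, hz, hU.1.trans (hES.trans hn), h⟩

theorem X12.typeF_nonabelian (hG : Ctx G) {M E U P₀ : Subgroup G} (hM : Mx M)
    (hE : IsPiHallOf (sigma M)ᶜ E M) (hU : IsHallOf U E) (hn : U ⊲ E)
    (hreg : ∀ e ∈ U, e ≠ 1 → PiElt (tau1 M ∪ tau3 M) e → sigmaCore M ⊓ 𝐂₁ e = ⊥)
    {p : ℕ} (hp : p ∈ tau2 M) (hd : p ∣ Nat.card U) (hP₀ : IsPGroup p P₀)
    (hna : ¬ IsMulCommutative P₀) :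
    (∃ A₀ : Subgroup G, IsMulCommutative A₀ ∧ A₀ ⊲ U ∧
        ∀ x ∈ sigmaCore M, x ≠ 1 → U ⊓ 𝐂₁ x ≤ A₀) ∧
      ∃ E₀ : Subgroup G, E₀ ≤ U ∧ Monoid.exponent E₀ = Monoid.exponent U ∧
        Semiregular (sigmaCore M) E₀ := by
  have := Fact.mk hp.1
  obtain ⟨A, hA, hAM⟩ := ex_tau2Elem hG hM hE hp
  have hAU := X12.sub_normal_Hall_of_dvd hU hn hp.1 hd (X10.elem_pgroup hA) hA.1
  obtain ⟨-, ⟨hc, -⟩, -, E₀, hE₀, ht⟩ := nonabelian_tau2 hG hM hE hp hA hP₀ hna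
  set A₀ := A ⊓ 𝐂 (sigmaCore M) with hA₀
  have hA₀U : A₀ ≤ U := inf_le_left.trans hAU
  have hsd := hE₀.modr_le hA₀U hU.1
  have hr : Semiregular (E₀ ⊓ U) (sigmaCore M) := by
    intro x hx hx1
    by_contra hne
    obtain ⟨e, he, he1⟩ := trivgPn.1 hne
    have := hreg e he.1.2 he1 (sub_p_elt Set.subset_union_left
      (mem_p_elt (ht x hx hx1) ⟨he.1.1, he.2⟩))
    exact hx1 (Subgroup.mem_bot.1 (this ▸ ⟨hx, cent1C.1 he.2⟩))
  refine ⟨⟨A₀, abelianS inf_le_left (X12.elem_ab hA), hsd.normal, fun x hx hx1 => ?_⟩,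
    E₀ ⊓ U, inf_le_right, X12.exponent_eq inf_le_right fun r hr' x hx hxr => ?_, hr.symm⟩
  · have := (hsd.modr (X := 𝐂₁ x) (inf_le_right.trans (cent_le_cent1 hx))).sup
    rw [hr x hx hx1, sup_bot_eq] at this
    exact this.ge
  have := Fact.mk hr'
  have hxp := p_elt_singleton_iff.1 hxr
  by_cases e : r = p
  · subst e
    obtain ⟨S, hS, hxS⟩ := Sylow_superset (Subgroup.zpowers_le.2 hx) hxp
    have hab := X12.tau2_pgroup_abelian hG hM hp (Sylow_pgroup hS) (hS.1.trans (hU.1.trans hE.1))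
    have h0 : A₀ ≤ S := normal_sub_Hall hS (pgroup_iff.2 (isPGroup_of_card_prime hc)) hsd.normal
    obtain ⟨a, ha, v, hv, rfl⟩ := (hsd.modr_le h0 hS.1).exists_mul (hxS (Subgroup.mem_zpowers x))
    have hdv : r ∣ Nat.card ↥(E₀ ⊓ U) := by
      have h1 : r ^ 2 ∣ Nat.card U := hA.2.2 ▸ cardSg hAU
      rw [← hsd.card, hc, pow_two] at h1
      exact Nat.dvd_of_mul_dvd_mul_left hr'.pos h1
    obtain ⟨y, hy, ho⟩ := Cauchy hr' hdv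
    have h2 : r ∣ Monoid.exponent ↥(E₀ ⊓ U) :=
      ho ▸ orderOf_dvd_iff_pow_eq_one.2 (X12.pow_exponent hy)
    rw [Commute.mul_pow (abelian_comm hab (h0 ha) hv.2), X12.pow_exponent hv.1, mul_one]
    exact orderOf_dvd_iff_pow_eq_one.1 ((hc ▸ order_dvdG ha).trans h2)
  · obtain ⟨R, hR⟩ := Sylow_exists r (E₀ ⊓ U)
    obtain ⟨g, -, hg⟩ := Sylow_Jsub (X12.pHall_of_sup hsd.sup hsd.norm
      ((prime_pgroup hc hp.1).2 (Ne.symm e)) hR) (Subgroup.zpowers_le.2 hx) hxp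
    exact X12.pow_eq_one_of_conj (X12.pow_exponent
      (hR.1 (hg (conj_mem_conj_smul g (Subgroup.mem_zpowers x)))))

theorem X12.typeF_abelian (hG : Ctx G) {M E U : Subgroup G} (hM : Mx M)
    (hE : IsPiHallOf (sigma M)ᶜ E M) (hU : IsHallOf U E) (hn : U ⊲ E)
    (hreg : ∀ e ∈ U, e ≠ 1 → PiElt (tau1 M ∪ tau3 M) e → sigmaCore M ⊓ 𝐂₁ e = ⊥)
    (hab : ∀ p ∈ tau2 M, p ∣ Nat.card U → ∀ P : Subgroup G, IsPGroup p P → IsMulCommutative P) :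
    (∃ A₀ : Subgroup G, IsMulCommutative A₀ ∧ A₀ ⊲ U ∧
        ∀ x ∈ sigmaCore M, x ≠ 1 → U ⊓ 𝐂₁ x ≤ A₀) ∧
      ∃ E₀ : Subgroup G, E₀ ≤ U ∧ Monoid.exponent E₀ = Monoid.exponent U ∧
        Semiregular (sigmaCore M) E₀ := by
  have hsol := solvableS hU.1 (sigma_compl_sol hG hM hE)
  have hreg' : ∀ r : ℕ, r.Prime → r ∉ tau2 M → ∀ X ∈ Elem r 1 U, sigmaCore M ⊓ 𝐂 X = ⊥ := by
    intro r hr h2 X hX
    have := Fact.mk hr
    obtain ⟨e, he, ho, rfl⟩ := p1Elem_exists_zpowers hX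
    rw [cent_zpowers]
    refine hreg e (hX.1 he) (fun h => hr.ne_one (by rw [← ho, h, orderOf_one]))
      ((p_elt_prime ho hr).2 ?_)
    have := (partition_pi_sigma_compl hG hM hE r).1 ⟨hr, X12.elem_dvd (X12.elemS hU.1 hX)⟩
    rcases this with h | h | h
    exacts [Or.inl h, absurd h h2, Or.inr h]
  obtain ⟨W, hW, nW, hWab⟩ : ∃ W, IsPiHallOf (tau2 M) W U ∧ U ≤ 𝐍 W ∧ IsMulCommutative W := by
    by_cases h : IsPiSubgroup (tau2 M)ᶜ U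
    · exact ⟨⊥, Hall1 h, norms1 U, abelian_bot⟩
    obtain ⟨p, hp', hd, hp⟩ : ∃ p, p.Prime ∧ p ∣ Nat.card U ∧ p ∈ tau2 M := by
      by_contra hc
      exact h fun r hr hd h2 => hc ⟨r, hr, hd, h2⟩
    obtain ⟨A, hA, -⟩ := ex_tau2Elem hG hM hE hp
    obtain ⟨S, hS, hAS⟩ := X10.syl_superset hp' (X10.elem_pgroup hA) le_top
    obtain ⟨E₁, E₂, E₃, hc⟩ := X12.ex_sigmaCompl hG hM hE
    obtain ⟨⟨n2, ab2⟩, -⟩ := abelian_tau2 hG hM hc hp hA hS hAS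
      (hab p hp hd S (X10.syl_pgroup hp' hS))
    exact ⟨E₂ ⊓ U, setI_normal_Hall hn hc.hall2, normsI (hU.1.trans n2.2) (normG U),
      abelianS inf_le_left ab2⟩
  have hz : ∀ p : tau2 M, ∃ z ∈ W, IsPGroup p (Subgroup.zpowers z) ∧ U ≤ 𝐍 (Subgroup.zpowers z) ∧
      Semiregular (sigmaCore M) (Subgroup.zpowers z) ∧
      ∀ x ∈ U, PiElt {p.1} x → x ^ orderOf z = 1 := by
    rintro ⟨p, hp⟩
    have := Fact.mk hp.1
    by_cases hd : p ∣ Nat.card U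
    · obtain ⟨A, hA, -⟩ := ex_tau2Elem hG hM hE hp
      obtain ⟨S, hS, hAS⟩ := Sylow_superset (le_top : A ≤ ⊤) (X10.elem_pgroup hA)
      have hSp := Sylow_pgroup hS
      have hSab := hab p hp hd S hSp
      have hSU := X12.sub_normal_Hall_of_dvd hU hn hp.1 hd hSp ((abelian_le_cent hSab).trans
        (abelian_tau2_sub_Fitting hG hM hE hp hA hS hAS hSab).2.2.2)
      obtain ⟨z, hz, h1, h2, h3⟩ := X12.typeF_cyclic hG hM hE hU hreg hp hA hS hAS hSab hSU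
      refine ⟨z, (sub_normal_Hall hW nW hSU).2 (pi_pgroup hSp hp) hz,
        isPGroupS (Subgroup.zpowers_le.2 hz) hSp, h1, h2, fun x hx hxp => ?_⟩
      obtain ⟨g, -, hg⟩ := Sylow_Jsub hS le_top (p_elt_singleton_iff.1 hxp)
      exact X12.pow_eq_one_of_conj (h3 _ (hg (conj_mem_conj_smul g (Subgroup.mem_zpowers x))))
    · refine ⟨1, W.one_mem, ?_, ?_, ?_, fun x hx hxp => ?_⟩
      · rw [Subgroup.zpowers_one_eq_bot]; exact IsPGroup.of_bot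
      · rw [Subgroup.zpowers_one_eq_bot]; exact norms1 U
      · rw [Subgroup.zpowers_one_eq_bot]; exact Semiregular.bot_right _
      · rw [p_elt_eq_one hxp (mem_p_elt ((p'groupE hp.1).2 hd) hx), one_pow]
  choose z hzW hzp hzn hzr hze using hz
  obtain ⟨V, hV⟩ := Hall_exists (tau2 M)ᶜ hsol
  set Z := ⨆ p : tau2 M, Subgroup.zpowers (z p) with hZ
  have hZW : Z ≤ W := iSup_le fun p => Subgroup.zpowers_le.2 (hzW p)
  have hsd : SDProd Z V (Z ⊔ V) := SDProd.of_eq_sup (hV.1.trans (X12.norms_iSup hzn))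
    (pgroup_TI (pgroupS hZW hW.2.1) hV.2.1)
  have hle : Z ⊔ V ≤ U := sup_le (hZW.trans hW.1) hV.1
  refine ⟨⟨W, hWab, ⟨hW.1, nW⟩, fun x hx hx1 => (sub_normal_Hall hW nW inf_le_left).2
    fun r hr hd => ?_⟩, Z ⊔ V, hle, X12.exponent_eq hle fun r hr x hx hxr => ?_,
    X12.semiregular_of_elem1 fun r hr X hX => ?_⟩
  · by_contra h2
    obtain ⟨X, hX⟩ := X12.ex_elem1 hr hd
    have := hreg' r hr h2 X (X12.elemS inf_le_left hX)
    exact hx1 (Subgroup.mem_bot.1 (this ▸ ⟨hx, le_cent1_iff.1 (hX.1.trans inf_le_right)⟩))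
  · by_cases h2 : r ∈ tau2 M
    · have h1 : z ⟨r, h2⟩ ∈ Z ⊔ V := Subgroup.mem_sup_left
        (le_iSup (fun p : tau2 M => Subgroup.zpowers (z p)) ⟨r, h2⟩ (Subgroup.mem_zpowers _))
      exact orderOf_dvd_iff_pow_eq_one.1 ((orderOf_dvd_iff_pow_eq_one.2 (hze ⟨r, h2⟩ x hx hxr)).trans
        (orderOf_dvd_iff_pow_eq_one.2 (X12.pow_exponent h1)))
    · obtain ⟨g, -, hg⟩ := Hall_Jsub hsol hV (Subgroup.zpowers_le.2 hx)
        (pi_singleton_pgroup (pgroup_zpowers.2 hxr) h2)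
      exact X12.pow_eq_one_of_conj (X12.pow_exponent
        (Subgroup.mem_sup_right (hg (conj_mem_conj_smul g (Subgroup.mem_zpowers x)))))
  · by_cases h2 : r ∈ tau2 M
    swap
    · exact hreg' r hr h2 X (X12.elemS hle hX)
    have := Fact.mk hr
    have hXZ : X ≤ Z := hsd.le_left_of_coprime hX.1 (pnat_coprime (X12.elem_pi hr hX h2) hV.2.1)
    have hZle : Z ≤ Subgroup.zpowers (z ⟨r, h2⟩) ⊔ piCoreOf {r}ᶜ W := iSup_le fun p => by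
      by_cases e : p = ⟨r, h2⟩
      · exact e ▸ le_sup_left
      · have := Fact.mk p.2.1
        exact le_sup_of_le_right (nilpotent_sub_pcore (abelian_nil hWab)
          (Subgroup.zpowers_le.2 (hzW p)) (pi_pgroup (hzp p) fun h => e (Subtype.ext h)))
    refine (hzr ⟨r, h2⟩).cent (le_of_le_sup_of_coprime ((pcore_sub _ _).trans (hW.1.trans (hzn _)))
      (hXZ.trans hZle) ?_) (X12.elem1_ne_bot hr hX)
    exact pgroup_coprime_p'group (X10.elem_pgroup hX) (pcore_pgroup _ _)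

/-- 12.12, generalized to a normal Hall subgroup `U` of `E` (this also gives 15.1(d,e)) -/
theorem FTtypeF_complement (hG : Ctx G) {M E U : Subgroup G} (hM : Mx M)
    (hE : IsPiHallOf (sigma M)ᶜ E M) (hU : IsHallOf U E) (hn : U ⊲ E) (hne : U ≠ ⊥)
    (hreg : ∀ e ∈ U, e ≠ 1 → PiElt (tau1 M ∪ tau3 M) e → sigmaCore M ⊓ 𝐂₁ e = ⊥) :
    (∃ A₀ : Subgroup G, IsMulCommutative A₀ ∧ A₀ ⊲ U ∧
        ∀ x ∈ sigmaCore M, x ≠ 1 → U ⊓ 𝐂₁ x ≤ A₀) ∧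
      ∃ E₀ : Subgroup G, E₀ ≤ U ∧ Monoid.exponent E₀ = Monoid.exponent U ∧
        IsFrob (sigmaCore M ⊔ E₀) (sigmaCore M) E₀ := by
  obtain ⟨h, E₀, h1, h2, h3⟩ : (∃ A₀ : Subgroup G, IsMulCommutative A₀ ∧ A₀ ⊲ U ∧
        ∀ x ∈ sigmaCore M, x ≠ 1 → U ⊓ 𝐂₁ x ≤ A₀) ∧
      ∃ E₀ : Subgroup G, E₀ ≤ U ∧ Monoid.exponent E₀ = Monoid.exponent U ∧
        Semiregular (sigmaCore M) E₀ := by
    by_cases hab : ∀ p ∈ tau2 M, p ∣ Nat.card U → ∀ P : Subgroup G, IsPGroup p P →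
        IsMulCommutative P
    · exact X12.typeF_abelian hG hM hE hU hn hreg hab
    · push Not at hab
      obtain ⟨p, hp, hd, P, hP, hna⟩ := hab
      exact X12.typeF_nonabelian hG hM hE hU hn hreg hp hd hP hna
  exact ⟨h, E₀, h1, h2, IsFrob.of_semiregular (h1.trans (hU.1.trans (hE.1.trans
    (Msigma_normal M).2))) (Msigma_neq1 hG hM) (X12.ne_bot_of_exponent_eq h2 hne) h3⟩

end Cfsg.Lib.FT.PG
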