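import Cfsg.Agent.PG.BG12.T8

/-! Bender-Glauberman 12.13. -/

set_option autoImplicit false
set_option linter.unusedSectionVars false

open Pointwise Cfsg Cfsg.Lib.Solv

namespace Cfsg.Lib.FT.PG

variable {G : Type*} [Group G] [Dl G] [Finite G]

/-- the facts on a nonabelian Sylow subgroup of rank two given by 10.7(b) -/
theorem X12.rank2_Sylow (hG : Ctx G) {p : ℕ} (hp : p.Prime)
    {P : Subgroup G} (hP : IsSylowOf p P ⊤) (hr : rank P ≤ 2) (hab : ¬ IsMulCommutative P)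
    (hd : p ∈ dl G := by dlt) :
    ∃ Q : Subgroup G, ¬ IsMulCommutative Q ∧ (∀ x ∈ Q, x ^ p = 1) ∧ CProd Q (centerOf P) P ∧
      IsCyclic (centerOf P) ∧ omegaOne p (centerOf P) = centerOf Q ∧ centerOf Q ∈ Elem p 1 Q ∧
      ⁅Q, Q⁆ = centerOf Q ∧ ⁅P, P⁆ = centerOf Q := by
  have := Fact.mk hp
  obtain ⟨Q, C, hna, hcard, hexp, hC, hcp, hO⟩ := mFT_rank2_Sylow_cprod hG hp hP hr hab
  have hQp : IsPGroup p Q := isPGroupS hcp.le_left (Sylow_pgroup hP)
  have hZC : centerOf Q ≤ C := hO ▸ Ohm_sub p C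
  have hZP : centerOf P = C := by
    rw [← hcp.center.sup, centerOf, centerOf, inf_eq_left.2 (abelian_le_cent (cyclic_abelian hC))]
    exact sup_eq_right.2 hZC
  have hQ1 : Q ≠ ⊥ := fun e => hna (e ▸ abelian_bot)
  have hZ : centerOf Q ∈ Elem p 1 Q := by
    have := X12.omega_cyclic_elem1 hp hC (X10.dvd_card_of_pgroup hp
      (isPGroupS hcp.le_right (Sylow_pgroup hP)) (subG1_contra hZC (X10.center_ne_bot hp hQp hQ1)))
    rw [hO] at this
    exact X10.elem_mono this inf_le_left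
  have hd : ⁅Q, Q⁆ ≤ centerOf Q := by
    refine X12.der_le_of_relIndex_sq hp (center_normal Q).2 ?_
    have := card_mul_relIndex_of_le hZ.1
    rw [X10.elem1_card hZ, hcard, pow_succ'] at this
    exact Nat.eq_of_mul_eq_mul_left hp.pos this
  have hd' : ⁅Q, Q⁆ = centerOf Q := by
    refine le_antisymm hd (prime_meetG (X12.elem1_prime hp hZ) ?_)
    rw [inf_eq_right.2 hd]
    exact fun e => hna (abelian_iff_der.2 e)
  refine ⟨Q, hna, hexp, hZP ▸ hcp, hZP ▸ hC, hZP ▸ hO, hZ, hd', ?_⟩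
  rw [← hcp.der.sup, abelian_iff_der.1 (cyclic_abelian hC), sup_bot_eq, hd']

theorem X12.nonabelian_Uniqueness_aux (hG : Ctx G) {P M H : Subgroup G} {p : ℕ}
    (hp : p.Prime) (hP : IsSylowOf p P ⊤) (hr : rank P ≤ 2) (hna : ¬ IsMulCommutative P)
    (hM : Mx M) (hH : Mx H) (hne : H ≠ M) (hNH : 𝐍 P ≤ H)
    (hZM : 𝐍 (omegaOne p (centerOf P)) ≤ M) (hpd : p ∈ dl G := by dlt) : False := by
  have := Fact.mk hp
  have hNM : 𝐍 P ≤ M := (norms_Ohm (norms_center le_rfl)).trans hZM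
  have hPM := (normG P).trans hNM
  have hPH := (normG P).trans hNH
  obtain ⟨Q, hQna, hexp, hcp, -, hO, hZ, hd, -⟩ := X12.rank2_Sylow hG hp hP hr hna
  have hr' : pRank p (⊤ : Subgroup G) ≤ 2 := by rwa [rank_Sylow hP] at hr
  have hβ : p ∉ beta M := fun h => by
    have h1 := (mem_alpha_iff.1 (beta_sub_alpha M h)).2
    have h2 := p_rankS p (le_top : M ≤ ⊤)
    omega
  have hdM := (nonuniq_norm_Sylow_pprod hG hM hH hne hp hP (le_inf hNH hNM)).1
  have hdH := (nonuniq_norm_Sylow_pprod hG hH hM hne.symm hp hP (le_inf hNM hNH)).1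
  rw [hO] at hZM
  have hQp : IsPGroup p Q := isPGroupS hcp.le_left (Sylow_pgroup hP)
  have hco : (Nat.card (betaCore M)).Coprime (Nat.card Q) :=
    pnat_coprime (Mbeta_pgroup M) (pi_pgroup hQp hβ)
  have hK : betaCore M ⊓ 𝐂 (centerOf Q) ≤ H := by
    refine X12.gen_cent_mod (center_normal Q) inf_le_right (norms_subcent
      (hcp.le_left.trans (hPM.trans (Mbeta_normal M).2)) (center_normal Q).2) hd.le ?_
      (coprimeSg inf_le_left hco) fun a ha haZ => ?_
    · intro a ha h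
      exact hQna (abelianS h (abelianY (abelian_zpowers a) (abelian_center Q)
        (inf_le_right.trans (centS (Subgroup.zpowers_le.2 ha)))))
    · have hA := pnElem_sup_zpowers hZ ha (centsC.1 (inf_le_right : centerOf Q ≤ 𝐂 Q) ha)
        (hexp a ha) haZ
      refine le_trans ?_ (p2Elem_mmax hG hH hp (X12.elemS (hcp.le_left.trans hPH) hA)).1
      rw [cent_sup, cent_zpowers]
      exact inf_le_inf_right _ inf_le_right
  have hZH : 𝐍 (centerOf Q) ≤ H := by
    have := pprod_norm_coprime_cent hdM (Mbeta_normal M).2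
      (hZ.1.trans (hcp.le_left.trans (le_inf hPH hPM))) (coprimegS hZ.1 hco) (mmax_sol hG hM)
    rw [inf_eq_right.2 hZM] at this
    rw [← this]
    exact sup_le hK (inf_le_left.trans inf_le_left)
  obtain ⟨A, hA⟩ := X12.ex_elem2 hG hp (Sylow_pgroup hP) fun h => hna (cyclic_abelian h)
  obtain ⟨-, -, htr⟩ := basic_p2maxElem_structure hG hp (X12.elem_top hA)
    (X12.maxElem_of_rank hp (X12.elem_top hA) hr') (Sylow_pgroup hP) hA.1 hna
  rw [hO] at htr
  by_cases h : ∀ A₀ ∈ Elem p 1 A, ¬ UniqMax (𝐍 A₀) M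
  · have h1 := ((p2Elem_mmax hG hM hp (X12.elemS hPM hA)).2 h).2.1
    rw [le_bot_iff.1 ((Mbeta_sub_Malpha M).trans h1.le), bot_sup_eq, inf_eq_right] at hdM
    exact hne (eq_mmax hM hH hdM).symm
  · push Not at h
    obtain ⟨A₀, hA₀, hu⟩ := h
    have h1 := ((p2Elem_mmax hG hH hp (X12.elemS hPH hA)).2 fun A₁ hA₁ hu' => by
      obtain ⟨x, hx, rfl⟩ := htr A₀ hA₀ (fun e => hne (hu.eq hH (e ▸ hZH))) A₁ hA₁
        (fun e => hne (hu'.eq hM (e ▸ hZM)).symm)
      have := def_uniq_mmaxJ x hu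
      rw [← normJ, conjGid (hPM hx.1)] at this
      exact hne (this.unique hu')).2.1
    rw [le_bot_iff.1 ((Mbeta_sub_Malpha H).trans h1.le), bot_sup_eq, inf_eq_right] at hdH
    exact hne (eq_mmax hH hM hdH)

theorem X12.nonabelian_sigma (hG : Ctx G) {P M : Subgroup G} {p : ℕ}
    (hp : p.Prime) (hP : IsPGroup p P) (hna : ¬ IsMulCommutative P) (hM : Mx M)
    (hPM : P ≤ M) : p ∈ sigma M := by
  have := Fact.mk hp
  by_contra h
  exact hna (sigma'_nil_abelian hG hM hPM (pi_pgroup hP h) (pgroup_nil hP))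

/-- 12.13 -/
theorem nonabelian_Uniqueness (hG : Ctx G) {P : Subgroup G} {p : ℕ}
    (hp : p.Prime) (hP : IsPGroup p P) (hna : ¬ IsMulCommutative P)
    (hd : p ∈ dl G := by dlt) : InUniqueMaximal P := by
  have := Fact.mk hp
  obtain ⟨M, hM, hPM⟩ := mmax_exists (mFT_pgroup_proper hG hP)
  refine ⟨M, ⟨hM, hPM⟩, fun H hH => ?_⟩
  obtain ⟨hH, hPH⟩ := hH
  by_contra hne
  obtain ⟨S, hS, hPS⟩ := Sylow_superset (le_inf hPM hPH) hP
  have hSp := Sylow_pgroup hS
  have hSna : ¬ IsMulCommutative S := fun h => hna (abelianS hPS h)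
  have hN : ∀ L, Mx L → S ≤ L → 𝐍 S ≤ L := fun L hL hSL =>
    norm_noncyclic_sigma hG hL (X12.nonabelian_sigma hG hp hSp hSna hL hSL) hSp hSL
      fun h => hSna (cyclic_abelian h)
  have hNM := hN M hM (hS.1.trans inf_le_left)
  have hNH := hN H hH (hS.1.trans inf_le_right)
  have hSG : IsSylowOf p S ⊤ := by
    rw [← Sylow_subnorm le_top, top_inf_eq]
    exact pHall_subl (normG S) (le_inf hNM hNH) hS
  have hr : rank S ≤ 2 := by
    by_contra h
    exact hne (X10.uniq_eq (rank3_Uniqueness hG (mFT_pgroup_proper hG hSp) (by omega)) hM hH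
      (hS.1.trans inf_le_left) (hS.1.trans inf_le_right))
  obtain ⟨L, hL, hZL⟩ := mmax_exists_norm hG
    (X10.omega_center_ne_bot hp hSp fun e => hSna (e ▸ abelian_bot))
    (dg_of_pgroup (abelem_pgroup (Ohm1_center_abelem p S)) hd)
  by_cases e : H = L
  · exact X12.nonabelian_Uniqueness_aux hG hp hSG hr hSna hL hM (fun e' => hne (e.trans e'.symm))
      hNM hZL
  · exact X12.nonabelian_Uniqueness_aux hG hp hSG hr hSna hL hH e hNH hZL

end Cfsg.Lib.FT.PG
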