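import Cfsg.Agent.PG.BG12.T3

/-! Bender-Glauberman 12.18 and 12.19. -/

set_option autoImplicit false
set_option linter.unusedSectionVars false

open Pointwise Cfsg Cfsg.Lib.Solv

namespace Cfsg.Lib.FT.PG

variable {G : Type*} [Group G] [Dl G] [Finite G]

theorem X12.cent_Malpha_reg_tau1_a (hG : Ctx G) {M P Q : Subgroup G}
    (hM : Mx M) {p q : ℕ} (hp : p ∈ tau1 M) (hq : q.Prime) (hP : P ∈ Elem p 1 M)
    (hQ1 : Q ≠ ⊥) (hPQ : P ≤ 𝐍 Q) (hreg : Q ⊓ 𝐂 P = ⊥) (hnu : ¬ UniqMax (𝐍 Q) M)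
    (hα : alphaCore M ≠ ⊥) (hqa : q ∉ alpha M) (hQ : IsPGroup q Q) (hQM : Q ≤ M) :
    alphaCore M ⊓ 𝐂 P ≠ ⊥ ∧ alphaCore M ⊓ 𝐂 (P ⊔ Q) = ⊥ := by
  have := Fact.mk hq
  have hpa : p ∉ alpha M := fun h => hp.2.1 (alpha_sub_sigma hG hM h)
  have hPa : IsPiSubgroup (alpha M)ᶜ P := X12.elem_pi hp.1 hP hpa
  have hQa : IsPiSubgroup (alpha M)ᶜ Q := pi_pgroup hQ hqa
  have hrk : ∀ X : Subgroup G, X ≤ M → IsPiSubgroup (alpha M)ᶜ X → X ≠ ⊥ →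
      (DG X → ¬ UniqMax (𝐍 X) M) → rank (alphaCore M ⊓ 𝐂 X) ≤ 1 := by
    intro X hXM hX hX1 hu
    by_contra hr
    have hXd : DG X := dg_of_inf_cent hG (Malpha_dg hG hM.1) (rank_gt0.1 (by omega))
    exact hu hXd (def_uniq_mmaxS (inf_le_right.trans (cent_sub X))
      (mFT_norm_proper hG hX1 hXd)
      (def_uniq_mmax (cent_alpha'_uniq hG hM hXM hX (by omega)) hM inf_le_left))
  have rQ := hrk Q hQM hQa hQ1 fun _ => hnu
  have rP := hrk P hP.1 hPa (X12.elem1_ne_bot hp.1 hP) fun hPd hu => by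
    have hpd : p ∈ dl G := hPd p hp.1 (X12.elem_dvd (X12.elem_self hP))
    rcases prime_class_mmax_norm hG hM hp.1 (X10.elem_pgroup hP) hu.2.1 with h | h
    exacts [hp.2.1 h, tau2'1 M hp h]
  have nA : P ⊔ Q ≤ 𝐍 (alphaCore M) := (sup_le hP.1 hQM).trans (Malpha_normal M).2
  have hco : (Nat.card (alphaCore M)).Coprime (Nat.card ↥(P ⊔ Q)) :=
    pnat_coprime (Malpha_pgroup M) (pgroupY' hPQ hPa hQa)
  have hsol := sub_mmax_sol hG hM (Malpha_normal M).1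
  have key : ∀ r : ℕ, r.Prime → r ∈ alpha M →
      alphaCore M ⊓ 𝐂 P ≠ ⊥ ∧ ¬ r ∣ Nat.card ↥(alphaCore M ⊓ 𝐂 (P ⊔ Q)) := by
    intro r hr hra
    have := Fact.mk hr
    obtain ⟨R, hR, nR⟩ := coprime_Hall_exists {r} nA hco hsol
    have hRr := Sylow_pgroup hR
    obtain ⟨R₁, hR₁, hn₁, -, hexp, -, hcrit⟩ := critical_odd hr hR.2.1 (mFT_odd hG R)
    have hco₁ := coprimeSg (hR₁.trans hR.1) hco
    have hnc : ¬ R₁ ⊓ 𝐂 P ≤ 𝐂 Q := by
      intro h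
      have h1 := X12.cent_of_cent_prime_le (X12.elem1_prime hp.1 hP) hPQ hreg (pgroup_sol hQ)
        (pgroup_nil (isPGroupS hR₁ hRr)) (le_sup_left.trans (nR.trans hn₁))
        (le_sup_right.trans (nR.trans hn₁)) (coprimegS le_sup_left hco₁)
        (coprimegS le_sup_right hco₁) h
      have h2 : Q ≤ 𝐂 R := fun x hx => by
        obtain ⟨n, hn⟩ := hcrit x ⟨nR (Subgroup.mem_sup_right hx), centsC.1 h1 hx⟩
        have hc : (r ^ n).Coprime (orderOf x) := Nat.Coprime.pow_left _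
          ((Nat.Prime.coprime_iff_not_dvd hr).2 fun hd =>
            hQa r hr (hd.trans (order_dvdG hx)) hra)
        obtain ⟨m, hm⟩ := exists_pow_eq_self_of_coprime hc
        rw [← hm]
        exact Subgroup.pow_mem _ hn m
      have h3 := (rankS (le_inf hR.1 (centsC.1 h2))).trans rQ
      rw [rank_Sylow hR, p_rank_Hall (Malpha_Hall hG hM) hra] at h3
      have := (mem_alpha_iff.1 hra).2
      omega
    have hne : R₁ ⊓ 𝐂 P ≠ ⊥ := fun e => hnc (e ▸ bot_le)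
    refine ⟨subG1_contra (inf_le_inf_right _ (hR₁.trans hR.1)) hne, ?_⟩
    rw [← Sylow_eq_bot_iff (coprime_Hall_cent nA hco hsol hR nR)]
    by_contra hne'
    have hCr : IsPGroup r ↥(R ⊓ 𝐂 P) := isPGroupS inf_le_left hRr
    have hcyc : IsCyclic ↥(R ⊓ 𝐂 P) := X12.rank1_cyclic hr hCr (mFT_odd hG _)
      ((p_rank_le_rank r _).trans ((rankS (inf_le_inf_right _ hR.1)).trans rP))
    have hle : R₁ ⊓ 𝐂 P ≤ R ⊓ 𝐂 P := inf_le_inf_right _ hR₁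
    have hX : R₁ ⊓ 𝐂 P ∈ Elem r 1 (R ⊓ 𝐂 P) := X10.elem1_of_card hr (cyclic_abelem_prime
      ⟨cyclic_abelian (cyclicS hle hcyc), fun x hx => hexp x hx.1⟩ (cyclicS hle hcyc) hne) hle
    exact hnc ((X12.elem1_le_of_cyclic hr hCr hcyc hX (inf_le_inf_left _ (centS le_sup_left))
      hne').trans (inf_le_right.trans (centS le_sup_right)))
  constructor
  · obtain ⟨r, hr, hd⟩ := exists_prime_dvd_card hα
    exact (key r hr (Malpha_pgroup M r hr hd)).1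
  · by_contra hne
    obtain ⟨r, hr, hd⟩ := exists_prime_dvd_card hne
    exact (key r hr (Malpha_pgroup M r hr (hd.trans (cardSg inf_le_left)))).2 hd

/-- 12.18 -/
theorem cent_Malpha_reg_tau1 (hG : Ctx G) {M P Q : Subgroup G} (hM : Mx M)
    {p q : ℕ} (hp : p ∈ tau1 M) (hq : q.Prime) (hqp : q ≠ p) (hP : P ∈ Elem p 1 M) (hQ1 : Q ≠ ⊥)
    (hPQ : P ≤ 𝐍 Q) (hreg : Q ⊓ 𝐂 P = ⊥) (hnu : ¬ UniqMax (𝐍 Q) M)
    (hd : q ∈ dl G := by dlt) :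
    (alphaCore M ≠ ⊥ → q ∉ alpha M → IsPGroup q Q → Q ≤ M →
        alphaCore M ⊓ 𝐂 P ≠ ⊥ ∧ alphaCore M ⊓ 𝐂 (P ⊔ Q) = ⊥) ∧
      (IsSylowOf q Q M →
        alpha M = beta M ∧ alphaCore M ≠ ⊥ ∧ q ∉ alpha M ∧
          alphaCore M ⊓ 𝐂 P ≠ ⊥ ∧ alphaCore M ⊓ 𝐂 (P ⊔ Q) = ⊥) := by
  refine ⟨X12.cent_Malpha_reg_tau1_a hG hM hp hq hP hQ1 hPQ hreg hnu, fun hQ => ?_⟩
  have := Fact.mk hq
  have := Fact.mk hp.1
  have hQq := Sylow_pgroup hQ
  have hNQ := mFT_norm_pgroup_proper hG hQq hQ1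
  have hQd : Q ≤ ⁅M, M⁆ := by
    have := coprime_cent_prod hPQ (pgroup_coprime_of_ne hQq (X10.elem_pgroup hP) hqp)
      (Or.inr (pgroup_sol hQq))
    rw [hreg, sup_bot_eq] at this
    exact this.ge.trans (commgSS hQ.1 hP.1)
  have hqa : q ∉ alpha M := fun h => by
    refine hnu (def_uniq_mmaxS (normG Q) hNQ (def_uniq_mmax
      (rank3_Uniqueness hG (mFT_pgroup_proper hG hQq) ?_) hM hQ.1))
    rw [rank_Sylow hQ]
    exact (mem_alpha_iff.1 h).2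
  have hα : alphaCore M ≠ ⊥ := fun e => by
    have hn := Malpha_quo_nil hG hM
    rw [e, nilMod_bot_iff] at hn
    exact hnu (uniqMax_of_norm_eq hM (mmax_normal hG hM ⟨hQ.1, (der_normal M).2.trans
      (nilpotent_Hall_norm hn (pHall_subl hQd (der_sub M) hQ))⟩ hQ1))
  refine ⟨Set.Subset.antisymm (fun r hr => ?_) (beta_sub_alpha M), hα, hqa,
    X12.cent_Malpha_reg_tau1_a hG hM hp hq hP hQ1 hPQ hreg hnu hα hqa hQq hQ.1⟩
  by_contra hb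
  exact hnu (def_uniq_mmaxS (inf_le_right.trans (cent_sub Q)) hNQ (def_uniq_mmax
    ((beta'_cent_Sylow hG hM (alpha_prime hr) hq hb (fun h => hqa (beta_sub_alpha M h)) hQq
      (Or.inl ⟨fun e => hqa (e ▸ hr), hQd⟩)).2.1 hr) hM inf_le_left))

/-- 12.19 -/
theorem der_compl_cent_beta' (hG : Ctx G) {M E : Subgroup G} (hM : Mx M)
    (hE : IsPiHallOf (sigma M)ᶜ E M) :
    ∃ H : Subgroup G, IsPiHallOf (beta M)ᶜ H (sigmaCore M) ∧ ⁅E, E⁆ ≤ 𝐂 H := by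
  have h1 : IsPiSubgroup (sigma M)ᶜ ⁅E, E⁆ := pgroupS (der_sub E) hE.2.1
  obtain ⟨W, hW, hEW⟩ := Hall_superset (sub_mmax_sol hG hM (der_sub M)) (dergS hE.1)
    (sub_pgroup (Set.compl_subset_compl.2 (beta_sub_sigma hG hM)) h1)
  exact ⟨W ⊓ sigmaCore M,
    setI_normal_Hall (normalS (Msigma_der1 hG hM) (der_sub M) (Msigma_normal M)) hW,
    sub_nilpotent_cent2 (beta'_der1_nil hG hM hW.2.1 hW.1) inf_le_left hEW
      (pnat_coprime (pgroupS inf_le_right (Msigma_pgroup M)) h1)⟩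

end Cfsg.Lib.FT.PG
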