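import Cfsg.Agent.PG.BG12.Intro
import Cfsg.Agent.PG.BG11

/-! Bender-Glauberman 12.3 - 12.6. -/

set_option autoImplicit false
set_option linter.unusedSectionVars false

open Pointwise Cfsg Cfsg.Lib.Solv

namespace Cfsg.Lib.FT.PG

variable {G : Type*} [Group G] [Dl G] [Finite G]

/-- 12.3 -/
theorem nonuniq_p2Elem_cent_sigma (hG : Ctx G) {M Mstar A A₀ : Subgroup G}
    (hM : Mx M) (hMstar : Mx Mstar) (hne : Mstar ≠ M) {p : ℕ} (hp : p.Prime)
    (hA : A ∈ Elem p 2 M) (hA₀ : A₀ ∈ Elem p 1 A) (hN : 𝐍 A₀ ≤ Mstar) :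
    (p ∉ sigma M → A ≤ 𝐂 (sigmaCore M ⊓ Mstar)) ∧
      (p ∉ alpha M → A ≤ 𝐂 (alphaCore M ⊓ Mstar)) := by
  have hAs : A ≤ Mstar := (sub_abelian_norm (X12.elem_ab hA) hA₀.1).trans hN
  have nS : A ≤ 𝐍 (sigmaCore M ⊓ Mstar) :=
    normsI (hA.1.trans (Msigma_normal M).2) (normsG hAs)
  have nA : A ≤ 𝐍 (alphaCore M ⊓ Mstar) :=
    normsI (hA.1.trans (Malpha_normal M).2) (normsG hAs)
  by_cases hs : p ∈ sigma Mstar
  · have hnJ : ¬ ConjIn ⊤ M Mstar := by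
      by_cases hsM : p ∈ sigma M
      · exact mmax_norm_notJ hG hM hMstar (X10.elem_pgroup hA₀) (hA₀.1.trans hA.1) hN
          (Or.inl ⟨hsM, hne.symm⟩)
      · rintro ⟨g, -, rfl⟩
        rw [sigmaJ] at hs
        exact hsM hs
    have hAS : A ≤ sigmaCore Mstar := sub_Msigma hG hMstar hAs (X12.elem_pi hp hA hs)
    constructor
    · intro hsM
      have hc := X12.elem_coprime hp hA
        (pgroupS (inf_le_left : sigmaCore M ⊓ Mstar ≤ _) (Msigma_pgroup M)) hsM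
      refine coprime_commGG1P nS hc (le_bot_iff.1 ?_)
      have h0 : ⁅sigmaCore M ⊓ Mstar, A⁆ ≤ sigmaCore M ⊓ Mstar := commg_subl.2 nS
      rw [← (sigma_disjoint hG hMstar hM fun h => hnJ h.symm).1]
      refine le_inf (X12.commg_le_of_nilMod (Malpha_quo_nil hG hMstar) (commgSS inf_le_right hAs)
        (hAS.trans (Msigma_der1 hG hMstar)) (commg_normr _ _) (coprimeSg h0 hc).symm) ?_
      exact (commg_subl.2 (commg_normr _ _)).trans (h0.trans inf_le_left)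
    · intro _
      rw [centsC, ← commG1P, ← le_bot_iff, ← (sigma_disjoint hG hM hMstar hnJ).1]
      exact le_inf ((commg_subl.2 nA).trans inf_le_left) ((commgSS le_rfl hAS).trans
        (commg_subr.2 (inf_le_right.trans (Msigma_normal Mstar).2)))
  · have exc : ExceptionalFTMaximal p Mstar A₀ A :=
      ⟨hp, hMstar, hs, hN, hA₀, X10.elem_mono hA hAs⟩
    have hn := exceptional_mul_sigma_normal hG exc
    have hti : sigmaCore M ⊓ sigmaCore Mstar = ⊥ := by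
      by_contra h
      exact hne (exceptional_sigma_uniq hG exc hM hA.1 h).symm
    have hsd : SDProd (sigmaCore Mstar) A (sigmaCore Mstar ⊔ A) :=
      SDProd.of_eq_sup (hAs.trans (Msigma_normal Mstar).2)
        (coprime_TIg (X12.elem_coprime hp hA (Msigma_pgroup Mstar) hs))
    have key : ∀ K : Subgroup G, K ≤ sigmaCore M ⊓ Mstar → A ≤ 𝐍 K →
        (Nat.card K).Coprime (Nat.card A) → A ≤ 𝐂 K := by
      intro K hK hn' hc
      have h0 : ⁅K, A⁆ ≤ K := commg_subl.2 hn'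
      rw [centsC, ← commG1P, ← le_bot_iff, ← hti]
      refine le_inf (h0.trans (hK.trans inf_le_left)) (hsd.le_left_of_coprime ?_ (coprimeSg h0 hc))
      exact (commgSS le_rfl le_sup_right).trans
        (commg_subr.2 (hK.trans (inf_le_right.trans hn.2)))
    exact ⟨fun h => key _ le_rfl nS (X12.elem_coprime hp hA
        (pgroupS inf_le_left (Msigma_pgroup M)) h),
      fun h => key _ (inf_le_inf_right _ (Malpha_sub_Msigma hG hM)) nA (X12.elem_coprime hp hA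
        (pgroupS inf_le_left (Malpha_pgroup M)) h)⟩

/-- `M_α` is trivial as soon as its rank is at most two -/
theorem X12.Malpha_eq_bot (hG : Ctx G) {M : Subgroup G} (hM : Mx M)
    (h : rank (alphaCore M) ≤ 2) : alphaCore M = ⊥ := by
  by_contra hne
  obtain ⟨r, hr, hd⟩ := exists_prime_dvd_card hne
  have h1 := Malpha_pgroup M r hr hd
  have h2 := (mem_alpha_iff.1 h1).2
  rw [← X10.pRank_hall hr (Malpha_Hall hG hM) h1] at h2
  have := X10.pRank_le_rank hr (alphaCore M)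
  omega

theorem X12.Msigma_nil_of_Malpha (hG : Ctx G) {M : Subgroup G} (hM : Mx M)
    (h : alphaCore M = ⊥) : Group.IsNilpotent (sigmaCore M) := by
  have := Malpha_quo_nil hG hM
  rw [h, nilMod_bot_iff] at this
  exact nilpotentS (Msigma_der1 hG hM) this

/-- 12.4 -/
theorem p2Elem_mmax (hG : Ctx G) {M A : Subgroup G} (hM : Mx M) {p : ℕ}
    (hp : p.Prime) (hA : A ∈ Elem p 2 M) :
    𝐂 A ≤ M ∧ ((∀ A₀ ∈ Elem p 1 A, ¬ UniqMax (𝐍 A₀) M) →
      p ∈ sigma M ∧ alphaCore M = ⊥ ∧ Group.IsNilpotent (sigmaCore M)) := by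
  have := Fact.mk hp
  have hd : p ∈ dl G := dl_of_elem hG hp (n := 0) hA hM.1
  have hAd : DG A := dg_of_elem hA hp hd
  by_cases hall : ∀ A₀ ∈ Elem p 1 A, ¬ UniqMax (𝐍 A₀) M
  swap
  · push Not at hall
    obtain ⟨A₀, hA₀, hu⟩ := hall
    exact ⟨(centS hA₀.1).trans ((cent_sub _).trans hu.2.1), fun h => absurd hu (h A₀ hA₀)⟩
  have hex : ∀ X ∈ Elem p 1 A, ∃ L, Mx L ∧ 𝐍 X ≤ L ∧ L ≠ M := fun X hX =>
    X12.ex_mmax_ne hM (X12.norm_elem_ne_top hG hp hX) (hall X hX)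
  have hr : rank (𝐂 A) ≤ 2 := by
    by_contra h
    obtain ⟨X, hX⟩ := X12.ex_elem1 hp (X12.elem_dvd (X12.elem_self hA))
    obtain ⟨L, hL, hXL, hne⟩ := hex X hX
    exact hne (X10.uniq_eq (cent_rank3_Uniqueness hG (X12.le_rank hp (X12.elem_self hA)) (by omega))
      hM hL hA.1 ((sub_abelian_norm (X12.elem_ab hA) hX.1).trans hXL))
  have key : ∀ K : Subgroup G, A ≤ 𝐍 K → (Nat.card K).Coprime (Nat.card A) →
      (∀ L X, Mx L → L ≠ M → X ∈ Elem p 1 A → 𝐍 X ≤ L → A ≤ 𝐂 (K ⊓ L)) → K ≤ 𝐂 A := by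
    intro K hn hc h
    refine coprime_abelian_gen_cent1 (X12.elem_ab hA) (X12.elem2_noncyclic hp hA) hn hc
      fun a ha ha1 => ?_
    have hX := X12.elem_zpowers hp hA ha ha1
    obtain ⟨L, hL, hXL, hne⟩ := hex _ hX
    exact (inf_le_inf_left _ ((cent1_le_norm_zpowers a).trans hXL)).trans
      (centsC.1 (h L _ hL hne hX hXL))
  have hs : p ∈ sigma M := by
    by_contra hs
    have h1 := key _ (hA.1.trans (Msigma_normal M).2)
      (X12.elem_coprime hp hA (Msigma_pgroup M) hs)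
      fun L X hL hne hX hXL => (nonuniq_p2Elem_cent_sigma hG hM hL hne hp hA hX hXL).1 hs
    have h2 := sub'cent_sigma_rank1 hG hM hA.1 (X12.elem_pi hp hA hs)
    rw [inf_eq_left.2 (centsC.1 h1)] at h2
    have := X12.le_rank hp (X12.elem_self hA)
    omega
  obtain ⟨P, hP, hAP⟩ := Sylow_superset hA.1 (X10.elem_pgroup hA)
  have hP1 : P ≠ ⊥ := subG1_contra hAP (X12.elem2_ne_bot hp hA)
  have hAmax : A ∈ MaxElem p (𝐂 A) := X12.maxElem_of_rank hp (X10.elem_mono hA (X12.elem_cent hA))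
    ((X10.pRank_le_rank hp _).trans hr)
  have hZc : omegaOne p (centerOf P) ≤ 𝐂 P := (Ohm_sub _ _).trans inf_le_right
  have hZA : omegaOne p (centerOf P) ≤ A :=
    X12.le_of_maxElem hAmax (Ohm1_center_abelem p P) (hZc.trans (centS hAP)) (hZc.trans (centS hAP))
  have hZ1 := X10.omega_center_ne_bot hp (Sylow_pgroup hP) hP1
  have ha : p ∉ alpha M := by
    intro ha
    obtain ⟨X, hX⟩ := X12.ex_elem1_of_pgroup hp (abelem_pgroup (Ohm1_center_abelem p P)) hZ1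
    obtain ⟨L, hL, hXL, hne⟩ := hex X (X12.elemS hZA hX)
    have h3 : 3 ≤ rank P := by
      rw [rank_Sylow hP]; exact (mem_alpha_iff.1 ha).2
    exact hne (X10.uniq_eq (rank3_Uniqueness hG (X10.ne_top_of_le hM hP.1) h3) hM hL hP.1
      ((cents_norm (centsC.1 (hX.1.trans hZc))).trans hXL))
  have hα : alphaCore M = ⊥ := by
    refine X12.Malpha_eq_bot hG hM ((rankS ?_).trans hr)
    exact key _ (hA.1.trans (Malpha_normal M).2) (X12.elem_coprime hp hA (Malpha_pgroup M) ha)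
      fun L X hL hne hX hXL => (nonuniq_p2Elem_cent_sigma hG hM hL hne hp hA hX hXL).2 ha
  have hnil := X12.Msigma_nil_of_Malpha hG hM hα
  refine ⟨?_, fun _ => ⟨hs, hα, hnil⟩⟩
  have hPS : P ≤ sigmaCore M := sub_Msigma hG hM hP.1 (pi_pgroup (Sylow_pgroup hP) hs)
  have hnP : M ≤ 𝐍 P := (Msigma_normal M).2.trans
    (nilpotent_Hall_norm hnil (pHall_subl hPS (Msigma_normal M).1 hP))
  exact (centS hZA).trans (mmax_normal_cent hG hM
    ⟨hZA.trans hA.1, norms_Ohm (norms_center hnP)⟩ hZ1)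

theorem X12.tau2_exceptional (hG : Ctx G) {M A : Subgroup G} (hM : Mx M)
    {p : ℕ} (hp : p ∈ tau2 M) (hA : A ∈ Elem p 2 M) : ∃ A₀, ExceptionalFTMaximal p M A₀ A := by
  by_contra h
  refine hp.2.1 ((p2Elem_mmax hG hM hp.1 hA).2 fun A₀ hA₀ hu => h ?_).1
  exact ⟨A₀, hp.1, hM, hp.2.1, hu.2.1, hA₀, hA⟩

/-- 12.5(a) -/
theorem tau2_Msigma_nil (hG : Ctx G) {M : Subgroup G} (hM : Mx M) {p : ℕ}
    (hp : p ∈ tau2 M) : Group.IsNilpotent (sigmaCore M) := by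
  obtain ⟨A, hA⟩ := (X10.le_pRank_iff hp.1).1 (mem_tau2_iff.1 hp).2.2.ge
  obtain ⟨A₀, exc⟩ := X12.tau2_exceptional hG hM hp hA
  exact exceptional_sigma_nil hG exc

/-- 12.5(b)-(f) -/
theorem tau2_context (hG : Ctx G) {M A : Subgroup G} (hM : Mx M) {p : ℕ}
    (hp : p ∈ tau2 M) (hA : A ∈ Elem p 2 M) :
    (∀ P : Subgroup G, IsSylowOf p P M →
        IsMulCommutative P ∧ (A ≤ P → omegaOne p P = A ∧ ¬ 𝐍 P ≤ M)) ∧
      (sigmaCore M ⊔ A) ⊲ M ∧ sigmaCore M ⊓ 𝐂 A = ⊥ ∧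
      (∀ Mstar : Subgroup G, Mx Mstar → A ≤ Mstar → Mstar ≠ M → sigmaCore M ⊓ Mstar = ⊥) ∧
      ∃ A₁ ∈ Elem p 1 A, sigmaCore M ⊓ 𝐂 A₁ = ⊥ := by
  obtain ⟨A₀, exc⟩ := X12.tau2_exceptional hG hM hp hA
  obtain ⟨P, hP, hAP⟩ := X10.syl_superset hp.1 (X10.elem_pgroup hA) hA.1
  obtain ⟨-, hC, A₁, hA₁, -, -, -, h1, -⟩ := exceptional_structure hG exc hP hAP
  refine ⟨fun P hP => ⟨exceptional_Sylow_abelian hG exc hP, fun hAP =>
    ⟨(exceptional_structure hG exc hP hAP).1.symm, sigma'_Sylow_contra hM.1 hp.1 hp.2.1 hP⟩⟩,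
    exceptional_mul_sigma_normal hG exc, hC, fun L hL hAL hne => ?_, A₁, hA₁, h1⟩
  rw [← le_bot_iff, ← hC]
  refine le_inf inf_le_left (centsC.1 ?_)
  by_cases h : ∃ X ∈ Elem p 1 A, 𝐍 X ≤ L
  · obtain ⟨X, hX, hXL⟩ := h
    exact (nonuniq_p2Elem_cent_sigma hG hM hL hne hp.1 hA hX hXL).1 hp.2.1
  · have hs := ((p2Elem_mmax hG hL hp.1 (X10.elem_mono hA hAL)).2
      fun X hX hu => h ⟨X, hX, hu.2.1⟩).1
    have hnJ : ¬ ConjIn ⊤ M L := by
      rintro ⟨g, -, rfl⟩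
      rw [sigmaJ] at hs
      exact hp.2.1 hs
    rw [centsC, ← commG1P, ← le_bot_iff,
      ← ((sigma_disjoint hG hM hL hnJ).2.2 (tau2_Msigma_nil hG hM hp)).1]
    exact le_inf ((commgSS inf_le_left le_rfl).trans (commg_subl.2 (hA.1.trans (Msigma_normal M).2)))
      ((commgSS inf_le_right (sub_Msigma hG hL hAL (X12.elem_pi hp.1 hA hs))).trans
        (commg_subr.2 (Msigma_normal L).2))

/-- 12.6(a,b,c,f) -/
theorem tau2_compl_context (hG : Ctx G) {M E A : Subgroup G} (hM : Mx M)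
    (hE : IsPiHallOf (sigma M)ᶜ E M) {p : ℕ} (hp : p ∈ tau2 M) (hA : A ∈ Elem p 2 E) :
    (A ⊲ E ∧ Elem p 1 E = Elem p 1 A) ∧ (𝐂 A ≤ E ∧ M ⊓ 𝐍 A = E ∧ ¬ 𝐍 A ≤ M) ∧
      (∀ X ∈ Elem p 1 E, sigmaCore M ⊓ 𝐂 X ≠ ⊥ → UniqMax (𝐂 X) M) ∧
      ∀ Mstar : Subgroup G, Mx Mstar → ¬ ConjIn ⊤ M Mstar →
        sigmaCore M ⊓ sigmaCore Mstar = ⊥ ∧ Disjoint (sigma M) (sigma Mstar) := by
  have := Fact.mk hp.1
  have hAM := X12.elemS hE.1 hA
  obtain ⟨hSyl, hn, hC, hti, -⟩ := tau2_context hG hM hp hAM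
  have hsd := sdprod_sigma hG hM hE
  have nA : E ≤ 𝐍 A := by
    have e : (sigmaCore M ⊔ A) ⊓ E = A := by
      rw [sup_inf_assoc_of_le_normalizer' (hAM.1.trans (Msigma_normal M).2) hA.1, hsd.inf,
        bot_sup_eq]
    rw [← e]
    exact normsI (hE.1.trans hn.2) (normG E)
  have hE1 : Elem p 1 E = Elem p 1 A := by
    refine Set.Subset.antisymm (fun X hX => ?_) (pnElemS hA.1)
    obtain ⟨P, hP, hAP⟩ := Sylow_superset (sup_le hAM.1 (hX.1.trans hE.1))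
      (isPGroupY (hX.1.trans nA) (X10.elem_pgroup hA) (X10.elem_pgroup hX))
    refine X10.elem_mono hX ?_
    rw [← ((hSyl P hP).2 (le_sup_left.trans hAP)).1]
    exact abelem_le_Ohm1 hX.2.1 (le_sup_right.trans hAP)
  have hNA : M ⊓ 𝐍 A = E := by
    refine (hsd.eq_of_le_of_inf_eq_bot (le_inf hE.1 nA) inf_le_left ?_).symm
    rw [← le_bot_iff, ← hC]
    refine le_inf inf_le_left (TI_cents (inf_le_right.trans inf_le_right) (normsI
      (hAM.1.trans (Msigma_normal M).2) (normsI (normsG hAM.1) (norms_norm (normG A)))) ?_)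
    exact le_bot_iff.1 ((inf_le_inf inf_le_left hA.1).trans hsd.inf.le)
  refine ⟨⟨⟨hA.1, nA⟩, hE1⟩, ⟨?_, hNA, fun h => ?_⟩, fun X hX hne => ?_, fun L hL hnJ =>
    (sigma_disjoint hG hM hL hnJ).2.2 (tau2_Msigma_nil hG hM hp)⟩
  · rw [← hNA]
    exact le_inf (p2Elem_mmax hG hM hp.1 hAM).1 (cent_sub A)
  · obtain ⟨P, hP, hAP⟩ := Sylow_superset hAM.1 (X10.elem_pgroup hA)
    obtain ⟨h1, h2⟩ := (hSyl P hP).2 hAP
    exact h2 ((norm_Ohm p P).trans (h1 ▸ h))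
  · have key : ∀ L, Mx L → 𝐂 X ≤ L → L = M := by
      intro L hL hXL
      by_contra hLM
      rw [hE1] at hX
      exact hne (le_bot_iff.1 ((inf_le_inf_left _ hXL).trans
        (hti L hL ((X12.elem_cent hA).trans ((centS hX.1).trans hXL)) hLM).le))
    obtain ⟨L, hL, hXL⟩ := mmax_exists_cent hG (X12.elem1_ne_bot hp.1 hX)
      (dg_of_elem hX hp.1 (tau2_dl hp hM hG))
    exact ⟨hM, key L hL hXL ▸ hXL, key⟩

theorem X12.tau13_cent_regular (hG : Ctx G) {M A K : Subgroup G} (hM : Mx M)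
    {p : ℕ} (hp : p ∈ tau2 M) (hA : A ∈ Elem p 2 M) (hKM : K ≤ M) (hKA : K ≤ 𝐂 A)
    (hK : IsPiSubgroup (tau1 M ∪ tau3 M) K) : Semiregular (sigmaCore M) K := by
  refine X12.semiregular_of_elem1 fun r hr X hX => ?_
  have hrd : r ∈ dl G := tau2_dg hG hM hp r hr ((X12.elem_dvd hX).trans (cardSg hKM))
  obtain ⟨L, hL, hXL⟩ := X12.ex_mmax_norm hG hr hX
  have hnJ := mmax_norm_notJ hG hM hL (X10.elem_pgroup hX) (hX.1.trans hKM) hXL
    (Or.inr (hK r hr (X12.elem_dvd hX)))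
  have hCL := (cent_sub X).trans hXL
  exact le_bot_iff.1 ((inf_le_inf_left _ hCL).trans ((tau2_context hG hM hp hA).2.2.2.1 L hL
    ((centsC.1 (hX.1.trans hKA)).trans hCL) (X12.notJ_ne hnJ)).le)

theorem X12.tau3_cent_tau2Elem (hG : Ctx G) {M E E₁ E₂ E₃ A : Subgroup G}
    (hM : Mx M) (hE : SigmaCompl M E E₁ E₂ E₃) {p : ℕ} (hp : p ∈ tau2 M)
    (hA : A ∈ Elem p 2 E) : E₃ ≤ 𝐂 A := by
  have nA := (tau2_compl_context hG hM hE.hallE hp hA).1.1
  have n3 := (sigma_compl_context hG hM hE).1.2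
  exact TI_cents (n3.1.trans nA.2) (nA.1.trans n3.2)
    (coprime_TIg (X12.elem_coprime hp.1 hA hE.hall3.2.1 (tau3'2 M hp)))

/-- 12.6(d,e) -/
theorem tau2_regular (hG : Ctx G) {M E E₁ E₂ E₃ A : Subgroup G} (hM : Mx M)
    (hE : SigmaCompl M E E₁ E₂ E₃) {p : ℕ} (hp : p ∈ tau2 M) (hA : A ∈ Elem p 2 E) :
    Semiregular (sigmaCore M) E₃ ∧ Semiregular (sigmaCore M) (E₁ ⊓ 𝐂 A) ∧ A ≤ E₂ := by
  have hAM := X12.elemS hE.hallE.1 hA
  refine ⟨X12.tau13_cent_regular hG hM hp hAM (hE.hall3.1.trans hE.hallE.1)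
    (X12.tau3_cent_tau2Elem hG hM hE hp hA) (sub_pgroup Set.subset_union_right hE.hall3.2.1),
    X12.tau13_cent_regular hG hM hp hAM (inf_le_left.trans (hE.hall1.1.trans hE.hallE.1))
      inf_le_right (pgroupS inf_le_left (sub_pgroup Set.subset_union_left hE.hall1.2.1)), ?_⟩
  exact normal_sub_Hall hE.hall2 (X12.elem_pi hp.1 hA hp)
    (tau2_compl_context hG hM hE.hallE hp hA).1.1

end Cfsg.Lib.FT.PG
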