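import Cfsg.Agent.PG.BG12.T3

/-! Bender-Glauberman 12.7. -/

set_option autoImplicit false
set_option linter.unusedSectionVars false

open Pointwise Cfsg Cfsg.Lib.Solv

namespace Cfsg.Lib.FT.PG

variable {G : Type*} [Group G] [Dl G] [Finite G]

/-- `p`-subgroups of `M` are abelian for `p ∈ τ₂(M)` -/
theorem X12.tau2_pgroup_abelian (hG : Ctx G) {M P : Subgroup G} (hM : Mx M)
    {p : ℕ} (hp : p ∈ tau2 M) (hP : IsPGroup p P) (hPM : P ≤ M) : IsMulCommutative P := by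
  obtain ⟨A, hA⟩ := (X10.le_pRank_iff hp.1).1 (mem_tau2_iff.1 hp).2.2.ge
  obtain ⟨S, hS, hPS⟩ := X10.syl_superset hp.1 hP hPM
  exact abelianS hPS ((tau2_context hG hM hp hA).1 S hS).1

/-- 12.7(a) -/
theorem X12.nonabelian_tau2_eq (hG : Ctx G) {M P₀ : Subgroup G} (hM : Mx M)
    {p : ℕ} (hp : p ∈ tau2 M) (hP₀ : IsPGroup p P₀) (hna : ¬ IsMulCommutative P₀) :
    tau2 M = {p} := by
  refine Set.eq_singleton_iff_unique_mem.2 ⟨hp, fun q hq => ?_⟩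
  by_contra hqp
  have := Fact.mk hp.1
  have := Fact.mk hq.1
  obtain ⟨E, hE, -⟩ := ex_sigma_compl hG hM bot_le pgroup1
  obtain ⟨A, hA, hAM⟩ := ex_tau2Elem hG hM hE hp
  obtain ⟨B, hB, hBM⟩ := ex_tau2Elem hG hM hE hq
  obtain ⟨⟨nB, -⟩, ⟨hCB, -⟩, -⟩ := tau2_compl_context hG hM hE hq hB
  obtain ⟨⟨nA, -⟩, -⟩ := tau2_compl_context hG hM hE hp hA
  have hBA : B ≤ 𝐂 A := TI_cents (hB.1.trans nA.2) (hA.1.trans nB.2)
    (coprime_TIg (pgroup_coprime_of_ne (X10.elem_pgroup hB) (X10.elem_pgroup hA) hqp))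
  obtain ⟨Q, hQ, hBQ⟩ := max_normed_exists (π := {q}) (pgroup_iff.2 (X10.elem_pgroup hB))
    (hA.1.trans nB.2)
  have hQq : IsPGroup q Q := pgroup_iff.1 (mem_max_normed hQ).1
  have hnar : IsNarrow q Q := (narrow_pmaxElemP hq.1 hQq
    ((dg_of_pgroup hQq (tau2_dl hq hM hG)).odd hG)).2 fun _ =>
    ⟨B, X10.elem_mono hB hBQ, pmaxElemS le_top ((tau2_not_beta hG hM hq).2 hBM) hBQ⟩
  obtain ⟨P, hP, -, -, -, hPQ⟩ := max_normed_2Elem_signaliser hG hp.1 hq.1 (Ne.symm hqp)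
    (X12.elem_top hA) ((tau2_not_beta hG hM hp).2 hAM) hQ (X12.elem_dvd (X10.elem_mono hB hBA))
  exact X12.Sylow_nonabelian hp.1 hP hP₀ hna (X12.tau2_pgroup_abelian hG hM hp (Sylow_pgroup hP)
    ((hPQ hnar).trans ((centS hBQ).trans (hCB.trans hE.1))))

/-- the structure of a Sylow `p`-subgroup of `E` in 12.7 -/
theorem X12.nonabelian_tau2_aux (hG : Ctx G) {M E A P₀ S : Subgroup G}
    (hM : Mx M) (hE : IsPiHallOf (sigma M)ᶜ E M) {p : ℕ} (hp : p ∈ tau2 M)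
    (hA : A ∈ Elem p 2 E) (hP₀ : IsPGroup p P₀) (hna : ¬ IsMulCommutative P₀)
    (hS : IsSylowOf p S E) :
    A ⊓ 𝐂 (sigmaCore M) ∈ Elem p 1 A ∧
      (∀ X ∈ Elem p 1 A, X ≠ A ⊓ 𝐂 (sigmaCore M) → sigmaCore M ⊓ 𝐂 X = ⊥ ∧ ¬ 𝐂 X ≤ M) ∧
      ∃ Y : Subgroup G, IsCyclic Y ∧ DProd (A ⊓ 𝐂 (sigmaCore M)) Y S ∧
        Y ⊓ 𝐂 (sigmaCore M) = ⊥ := by
  have := Fact.mk hp.1
  have hAM := X12.elemS hE.1 hA
  obtain ⟨⟨nA, hE1⟩, ⟨hCA, -⟩, huniq, -⟩ := tau2_compl_context hG hM hE hp hA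
  obtain ⟨-, -, hC, -⟩ := tau2_context hG hM hp hAM
  have hSM : IsSylowOf p S M := subHall_Sylow hE hp.2.1 hS
  have hAS : A ≤ S := normal_sub_Hall hS (pgroup_iff.2 (X10.elem_pgroup hA)) nA
  have hSab := X12.tau2_pgroup_abelian hG hM hp (Sylow_pgroup hS) hSM.1
  obtain ⟨P, hP, hSP⟩ := Sylow_superset (le_top : S ≤ ⊤) (Sylow_pgroup hS)
  have hPp := Sylow_pgroup hP
  have hPna := X12.Sylow_nonabelian hp.1 hP hP₀ hna
  have hPM : P ⊓ M = S := sub_Sylow hSM (isPGroupS inf_le_left hPp) (le_inf hSP hSM.1) inf_le_right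
  have hPA : P ⊓ 𝐂 A = S := le_antisymm (hPM ▸ inf_le_inf_left _ (hCA.trans hE.1))
    (le_inf hSP ((abelian_le_cent hSab).trans (centS hAS)))
  obtain ⟨hZ, ⟨Y, hY, hZY, hdp⟩, htr⟩ := basic_p2maxElem_structure hG hp.1 (X12.elem_top hA)
    ((tau2_not_beta hG hM hp).2 hAM) hPp (hAS.trans hSP) hPna
  rw [hPA] at hdp
  set Z := omegaOne p (centerOf P) with hZdef
  have hZM : ¬ 𝐂 Z ≤ M := fun h => hPna (X12.tau2_pgroup_abelian hG hM hp hPp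
    ((centsC.1 ((Ohm_sub _ _).trans inf_le_right)).trans h))
  have hgen : ∀ K : Subgroup G, (∀ X ∈ Elem p 1 A, sigmaCore M ⊓ 𝐂 X ≤ K) → sigmaCore M ≤ K := by
    intro K h
    refine coprime_abelian_gen_cent1 (X12.elem_ab hA) (X12.elem2_noncyclic hp.1 hA)
      (hAM.1.trans (Msigma_normal M).2) (X12.elem_coprime hp.1 hA (Msigma_pgroup M) hp.2.1)
      fun a ha ha1 => ?_
    rw [← cent_zpowers]
    exact h _ (X12.elem_zpowers hp.1 hA ha ha1)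
  obtain ⟨A₀, hA₀, h0⟩ : ∃ A₀ ∈ Elem p 1 A, sigmaCore M ⊓ 𝐂 A₀ ≠ ⊥ := by
    by_contra h
    push Not at h
    exact Msigma_neq1 hG hM (le_bot_iff.1 (hgen ⊥ fun X hX => (h X hX).le))
  have hu := huniq A₀ (hE1 ▸ hA₀) h0
  have hA₀Z : A₀ ≠ Z := fun e => hZM (e ▸ hu.2.1)
  have hX : ∀ X ∈ Elem p 1 A, X ≠ A₀ → sigmaCore M ⊓ 𝐂 X = ⊥ ∧ ¬ 𝐂 X ≤ M := by
    intro X hX hne
    have : ¬ 𝐂 X ≤ M := by
      by_cases e : X = Z
      · rwa [e]
      · obtain ⟨x, hx, rfl⟩ := htr A₀ hA₀ hA₀Z X hX e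
        intro h
        rw [centJ] at h
        have hxS : x ∈ S := hPM ▸ ⟨hx.1, hu.mem_of_conj_le hG h⟩
        exact hne (normP.1 (sub_abelian_norm hSab (hA₀.1.trans hAS) hxS))
    exact ⟨by_contra fun h => this (huniq X (hE1 ▸ hX) h).2.1, this⟩
  have hcent : sigmaCore M ≤ 𝐂 A₀ := hgen _ fun X hX' => by
    by_cases e : X = A₀
    · exact e ▸ inf_le_right
    · exact (hX X hX' e).1.le.trans bot_le
  have hdef : A ⊓ 𝐂 (sigmaCore M) = A₀ := by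
    by_contra hne
    have := X12.eq_of_elem1_lt hp.1 hA hA₀
      (lt_of_le_of_ne (le_inf hA₀.1 (centsC.1 hcent)) (Ne.symm hne)) inf_le_left
    rw [inf_eq_left, centsC, ← inf_eq_left, hC] at this
    exact Msigma_neq1 hG hM this.symm
  rw [hdef]
  refine ⟨hA₀, hX, Y, hY, hdp A₀ hA₀ hA₀Z, ?_⟩
  by_contra hne
  have h1 : Z ≤ Y ⊓ 𝐂 (sigmaCore M) := X12.elem1_le_of_cyclic hp.1
    (isPGroupS (hdp A₀ hA₀ hA₀Z).le_right (Sylow_pgroup hS)) hY (X10.elem_mono hZ hZY)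
    inf_le_left hne
  have h2 := (hX Z hZ hA₀Z.symm).1
  rw [inf_eq_left.2 (centsC.1 (h1.trans inf_le_right))] at h2
  exact Msigma_neq1 hG hM h2

theorem X12.cent_Msigma_normal {M E A : Subgroup G} (h : SDProd (sigmaCore M) E M) (nA : A ⊲ E) :
    A ⊓ 𝐂 (sigmaCore M) ⊲ M :=
  ⟨inf_le_left.trans (nA.1.trans h.le_right), h.sup.ge.trans
    (sup_le (cents_norm (centsC.1 inf_le_right)) (norms_subcent nA.2 h.norm))⟩

/-- 12.7, with `A₀ = C_A(M_σ)` -/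
theorem nonabelian_tau2 (hG : Ctx G) {M E A P₀ : Subgroup G} (hM : Mx M)
    (hE : IsPiHallOf (sigma M)ᶜ E M) {p : ℕ} (hp : p ∈ tau2 M) (hA : A ∈ Elem p 2 E)
    (hP₀ : IsPGroup p P₀) (hna : ¬ IsMulCommutative P₀) :
    tau2 M = {p} ∧
      (Nat.card ↥(A ⊓ 𝐂 (sigmaCore M)) = p ∧
        DProd (sigmaCore M) (A ⊓ 𝐂 (sigmaCore M)) (fittingOf M)) ∧
      (∀ X ∈ Elem p 1 E, X ≠ A ⊓ 𝐂 (sigmaCore M) → sigmaCore M ⊓ 𝐂 X = ⊥ ∧ ¬ 𝐂 X ≤ M) ∧
      ∃ E₀ : Subgroup G, SDProd (A ⊓ 𝐂 (sigmaCore M)) E₀ E ∧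
        ∀ x ∈ sigmaCore M, x ≠ 1 → IsPiSubgroup (tau1 M) (E₀ ⊓ 𝐂₁ x) := by
  have := Fact.mk hp.1
  have hAM := X12.elemS hE.1 hA
  obtain ⟨⟨nA, hE1⟩, -⟩ := tau2_compl_context hG hM hE hp hA
  obtain ⟨S, hS⟩ := Sylow_exists p E
  obtain ⟨hA₀, hX, Y, hY, hdp, hYC⟩ := X12.nonabelian_tau2_aux hG hM hE hp hA hP₀ hna hS
  have ht := X12.nonabelian_tau2_eq hG hM hp hP₀ hna
  have hsd := sdprod_sigma hG hM hE
  set A₀ := A ⊓ 𝐂 (sigmaCore M) with hA₀def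
  have n0 : A₀ ⊲ M := X12.cent_Msigma_normal hsd nA
  rw [← hE1] at hX
  refine ⟨ht, ⟨X10.elem1_card hA₀, le_antisymm (sup_le ?_ ?_) ?_, inf_le_right, ?_⟩, hX, ?_⟩
  · exact Fitting_max (Msigma_normal M) (tau2_Msigma_nil hG hM hp)
  · exact Fitting_max n0 (abelian_nil (X12.elem_ab hA₀))
  · have hF := nilpotent_pcoreC (sigma M) (Fitting_nil M)
    rw [← hF.sup]
    refine sup_le_sup (pcore_Fitting_le _ M) ?_
    set K := piCoreOf (sigma M)ᶜ (fittingOf M) with hK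
    have nK : K ⊲ M := pcore_normal_trans _ (Fitting_normal M)
    have hKE : K ≤ E := normal_sub_Hall hE (pcore_pgroup _ _) nK
    have hKnil : Group.IsNilpotent K := nilpotentS (pcore_sub _ _) (Fitting_nil M)
    have hKC : K ≤ 𝐂 (sigmaCore M) := TI_cents (nK.1.trans (Msigma_normal M).2)
      ((Msigma_normal M).1.trans nK.2) (le_bot_iff.1 ((inf_le_inf_right _ hKE).trans hsd.inf'.le))
    have hKp : IsPiSubgroup {p} K := by
      refine X12.nil_pgroup_of_core hKnil ?_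
      have nK' : piCoreOf {p}ᶜ K ⊲ M := pcore_normal_trans _ nK
      have hreg := X12.tau13_cent_regular hG hM hp hAM nK'.1
        (TI_cents ((pcore_sub _ _).trans (hKE.trans nA.2)) (hAM.1.trans nK'.2)
          (coprime_TIg (X12.elem_coprime hp.1 hA (pcore_pgroup _ _) (by simp))))
        (fun r hr hd => by
          have h1 : r ≠ p := pcore_pgroup ({p}ᶜ : Set ℕ) K r hr hd
          rcases (partition_pi_sigma_compl hG hM hE r).1
            ⟨hr, hd.trans (cardSg ((pcore_sub _ _).trans hKE))⟩ with h | h | h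
          · exact Or.inl h
          · exact absurd (ht ▸ h : r ∈ ({p} : Set ℕ)) h1
          · exact Or.inr h)
      by_contra hne
      have := hreg.cent le_rfl hne
      rw [inf_eq_left.2 (centsC.1 ((pcore_sub _ _).trans hKC))] at this
      exact Msigma_neq1 hG hM this
    have hKS : K ≤ S := normal_sub_Hall hS hKp (normalS hKE hE.1 nK)
    have := (hdp.modr (X := 𝐂 (sigmaCore M)) inf_le_right).sup
    rw [hYC, sup_bot_eq] at this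
    exact (le_inf hKS hKC).trans this.ge
  · exact le_bot_iff.1 ((inf_le_inf_left _ (inf_le_left.trans hA.1)).trans hsd.inf.le)
  · obtain ⟨E₀, hE₀⟩ := X12.gaschutz_split (normalS (hA₀.1.trans hA.1) hE.1 n0) (X12.elem_ab hA₀)
      hS.1 (by rw [X10.elem1_card hA₀]; exact (Nat.Prime.coprime_iff_not_dvd hp.1).2 (Sylow_index hS))
      hdp.sdprod
    refine ⟨E₀, hE₀, fun x hx hx1 r hr hd => ?_⟩
    obtain ⟨X, hX1⟩ := X12.ex_elem1 hr hd
    have hXE : X ≤ E := hX1.1.trans (inf_le_left.trans hE₀.le_right)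
    have hne : sigmaCore M ⊓ 𝐂 X ≠ ⊥ :=
      trivgPn.2 ⟨x, ⟨hx, le_cent1_iff.1 (hX1.1.trans inf_le_right)⟩, hx1⟩
    rcases (partition_pi_sigma_compl hG hM hE r).1 ⟨hr, X12.elem_dvd (X10.elem_mono hX1 hXE)⟩
      with h | h | h
    · exact h
    · obtain rfl : r = p := (ht ▸ h : r ∈ ({p} : Set ℕ))
      refine absurd (hX X (X10.elem_mono hX1 hXE) fun e => X12.elem1_ne_bot hr hX1 ?_).1 hne
      exact le_bot_iff.1 ((le_inf e.le (hX1.1.trans inf_le_left)).trans hE₀.inf.le)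
    · obtain ⟨E₁, E₂, E₃, hc⟩ := X12.ex_sigmaCompl hG hM hE
      have h3 : X ≤ E₃ := norm_sub_Hall' hc.hall3 (X12.elem_pi hr hX1 h) hXE
        (hXE.trans (sigma_compl_context hG hM hc).1.2.2)
      exact absurd ((tau2_regular hG hM hc hp hA).1.cent h3 (X12.elem1_ne_bot hr hX1)) hne

end Cfsg.Lib.FT.PG
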